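import Mathlib

/-!
Orders, centres, generation by transvections and perfectness of `SL_n`, `GL_n`, `PSL_n` over fields.
-/

set_option autoImplicit false

namespace Cfsg.Agent.LinGrp

open Matrix
open scoped commutatorElement

variable {n : Type*} [Fintype n] [DecidableEq n] {F : Type*} [Field F]

local notation "SLn" => Matrix.SpecialLinearGroup n F

/-- A matrix in `GL` is in the range of `toGL` iff its determinant is `1`. -/
theorem range_toGL_eq_ker_det :
    (Matrix.SpecialLinearGroup.toGL : SLn →* GL n F).range =
      (Matrix.GeneralLinearGroup.det : GL n F →* Fˣ).ker := by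
  ext g
  constructor
  · rintro ⟨A, rfl⟩
    rw [MonoidHom.mem_ker]
    ext
    simp
  · intro hg
    rw [MonoidHom.mem_ker] at hg
    refine ⟨⟨g.1, ?_⟩, Units.ext rfl⟩
    simpa using congrArg Units.val hg

/-- The kernel of the determinant is isomorphic to `SL`. -/
noncomputable def slEquivKerDet :
    SLn ≃* (Matrix.GeneralLinearGroup.det : GL n F →* Fˣ).ker :=
  (MonoidHom.ofInjective (f := (Matrix.SpecialLinearGroup.toGL : SLn →* GL n F))
    (fun A B h => Subtype.ext (congrArg Units.val h))).trans
    (MulEquiv.subgroupCongr range_toGL_eq_ker_det)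

theorem det_surjective [Nonempty n] :
    Function.Surjective (Matrix.GeneralLinearGroup.det : GL n F →* Fˣ) := by
  intro u
  obtain ⟨i⟩ := ‹Nonempty n›
  have h : (Matrix.diagonal (Function.update (1 : n → F) i u)).det = (u : F) := by
    rw [Matrix.det_diagonal, Finset.prod_update_of_mem (Finset.mem_univ i)]
    simp
  refine ⟨Matrix.GeneralLinearGroup.mk'' (Matrix.diagonal (Function.update (1 : n → F) i u))
    (by rw [h]; exact u.isUnit), ?_⟩
  ext
  simpa using h

/-- `|GL_n| = (q-1) |SL_n|`. -/
theorem natCard_GL_eq [Nonempty n] [Finite F] :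
    Nat.card (GL n F) = (Nat.card F - 1) * Nat.card SLn := by
  have h := Subgroup.card_eq_card_quotient_mul_card_subgroup
    (Matrix.GeneralLinearGroup.det : GL n F →* Fˣ).ker
  rw [Nat.card_congr (QuotientGroup.quotientKerEquivOfSurjective _
      (det_surjective (n := n) (F := F))).toEquiv,
    ← Nat.card_congr (slEquivKerDet (n := n) (F := F)).toEquiv, Nat.card_units] at h
  exact h

/-- `(q-1) |SL_n(q)| = ∏ (q^n - q^i)`. -/
theorem natCard_SL_mul (m : ℕ) (hm : 1 ≤ m) [Fintype F] :
    (Fintype.card F - 1) * Nat.card (Matrix.SpecialLinearGroup (Fin m) F) =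
      ∏ i : Fin m, (Fintype.card F ^ m - Fintype.card F ^ (i : ℕ)) := by
  haveI : Nonempty (Fin m) := ⟨⟨0, hm⟩⟩
  rw [← Matrix.card_GL_field, natCard_GL_eq, Nat.card_eq_fintype_card (α := F)]

/-- The number of `k`-th roots of unity in a finite field. -/
theorem natCard_rootsOfUnity [Finite F] (k : ℕ) :
    Nat.card (rootsOfUnity k F) = Nat.gcd k (Nat.card F - 1) := by
  have h : rootsOfUnity k F = (powMonoidHom k : Fˣ →* Fˣ).ker := by
    ext x
    simp [mem_rootsOfUnity, MonoidHom.mem_ker]
  rw [h, IsCyclic.card_powMonoidHom_ker, Nat.card_units, Nat.gcd_comm]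

/-- The centre of `SL_n` over a finite field has order `gcd(n, q-1)`. -/
theorem natCard_center_SL [Finite F] [Nonempty n] :
    Nat.card (Subgroup.center SLn) = Nat.gcd (Fintype.card n) (Nat.card F - 1) := by
  rw [Nat.card_congr
    (Matrix.SpecialLinearGroup.center_equiv_rootsOfUnity' (Classical.arbitrary n)).toEquiv,
    natCard_rootsOfUnity]

/-- `gcd(n,q-1) |PSL_n| = |SL_n|`. -/
theorem natCard_PSL_mul [Finite F] [Nonempty n] :
    Nat.gcd (Fintype.card n) (Nat.card F - 1) *
        Nat.card (Matrix.ProjectiveSpecialLinearGroup n F) = Nat.card SLn := by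
  rw [← natCard_center_SL, mul_comm]
  exact (Subgroup.card_eq_card_quotient_mul_card_subgroup _).symm

/-- The set of all elementary transvections. -/
def transvectionSet : Set SLn :=
  {g | ∃ (i j : n) (hij : i ≠ j) (a : F), g = Matrix.SpecialLinearGroup.transvection hij a}

theorem sl_ext_smul {A B : SLn}
    (h : ∀ k : n, A • (Pi.single k 1 : n → F) = B • (Pi.single k 1 : n → F)) : A = B := by
  apply Matrix.SpecialLinearGroup.ext
  intro a b
  have := congrFun (h b) a
  simpa [Matrix.SpecialLinearGroup.smul_def] using this

theorem transvection_smul_single_of_ne {i j k : n} (hij : i ≠ j) (hk : k ≠ j) (b : F) :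
    (Matrix.SpecialLinearGroup.transvection hij b) • (Pi.single k 1 : n → F) = Pi.single k 1 := by
  simp [Matrix.SpecialLinearGroup.smul_def, -Matrix.mulVec_single,
    Matrix.SpecialLinearGroup.transvection_coe, Matrix.add_mulVec, Matrix.single_mulVec_eq, hk.symm]

theorem diag2n_eq_prod {i j : n} (hij : i ≠ j) (c : F) (hc : c ≠ 0) :
    Matrix.SpecialLinearGroup.diag2n hij c hc =
      Matrix.SpecialLinearGroup.transvection hij c *
      Matrix.SpecialLinearGroup.transvection hij.symm (- c⁻¹) *
      Matrix.SpecialLinearGroup.transvection hij c *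
      Matrix.SpecialLinearGroup.transvection hij (-1) *
      Matrix.SpecialLinearGroup.transvection hij.symm 1 *
      Matrix.SpecialLinearGroup.transvection hij (-1) := by
  apply sl_ext_smul
  intro k
  have hd : Matrix.SpecialLinearGroup.diag2n hij c hc • (Pi.single k 1 : n → F) =
      (if k = i then c else if k = j then c⁻¹ else 1) • (Pi.single k 1 : n → F) := by
    ext a
    simp [Matrix.SpecialLinearGroup.smul_def, Matrix.SpecialLinearGroup.diag2n_coe,
      Pi.single_apply]
  rw [hd]
  simp only [mul_smul]
  have hcomm : ∀ (g : SLn) (d : F) (v : n → F), g • (d • v) = d • (g • v) :=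
    fun g d v => smul_comm g d v
  have hj := Matrix.SpecialLinearGroup.transvection_smul_single_snd (F := F) hij
  have hi := Matrix.SpecialLinearGroup.transvection_smul_single_snd (F := F) hij.symm
  have hi' := Matrix.SpecialLinearGroup.transvection_smul_single_fst (F := F) hij
  have hj' := Matrix.SpecialLinearGroup.transvection_smul_single_fst (F := F) hij.symm
  by_cases hki : k = i
  · subst hki
    simp only [if_true, hi, hj, hi', hj', smul_add, hcomm, smul_smul]
    match_scalars <;> field_simp <;> ring
  · by_cases hkj : k = j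
    · subst hkj
      simp only [if_neg hki, if_true, hi, hj, hi', hj', smul_add, hcomm, smul_smul]
      match_scalars <;> field_simp <;> ring
    · simp [hki, hkj, transvection_smul_single_of_ne hij hkj,
        transvection_smul_single_of_ne hij.symm hki]

theorem diag2n_mem_closure {i j : n} (hij : i ≠ j) (c : F) (hc : c ≠ 0) :
    Matrix.SpecialLinearGroup.diag2n hij c hc ∈ Subgroup.closure (transvectionSet (n := n) (F := F)) := by
  rw [diag2n_eq_prod hij c hc]
  refine mul_mem (mul_mem (mul_mem (mul_mem (mul_mem ?_ ?_) ?_) ?_) ?_) ?_ <;>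
    exact Subgroup.subset_closure ⟨_, _, _, _, rfl⟩

/-- `SL_n` over a field is generated by elementary transvections. -/
theorem closure_transvectionSet :
    Subgroup.closure (transvectionSet (n := n) (F := F)) = ⊤ := by
  rcases subsingleton_or_nontrivial n with hn | hn
  · exact Subsingleton.elim _ _
  refine le_antisymm le_top fun M _ => ?_
  exact Matrix.SpecialLinearGroup.diagonal_transvection_induction'
    (fun x => x ∈ Subgroup.closure (transvectionSet (n := n) (F := F))) M
    (fun i j hij c hc => diag2n_mem_closure hij c hc)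
    (fun i j hij a => Subgroup.subset_closure ⟨i, j, hij, a, rfl⟩)
    (fun _ _ => mul_mem)

theorem commutator_transvection {i j k : n} (hik : i ≠ k) (hkj : k ≠ j) (hij : i ≠ j) (a b : F) :
    ⁅Matrix.SpecialLinearGroup.transvection hik a, Matrix.SpecialLinearGroup.transvection hkj b⁆ =
      Matrix.SpecialLinearGroup.transvection hij (a * b) := by
  rw [commutatorElement_def, Matrix.SpecialLinearGroup.transvection_inv,
    Matrix.SpecialLinearGroup.transvection_inv]
  apply Subtype.ext
  simp [Matrix.SpecialLinearGroup.transvection_coe, mul_add, add_mul, hik.symm, hkj.symm,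
    hij.symm, Matrix.single_mul_single_of_ne, Matrix.single_mul_single_same, ← Matrix.single_neg]
  abel

/-- `SL_n` is perfect for `n ≥ 3`. -/
theorem commutator_SL_eq_top (h : 3 ≤ Fintype.card n) : commutator SLn = ⊤ := by
  rw [eq_top_iff, ← closure_transvectionSet, Subgroup.closure_le]
  rintro g ⟨i, j, hij, a, rfl⟩
  have : ∃ k, k ≠ i ∧ k ≠ j := by
    by_contra hc
    simp only [not_exists, not_and, not_not] at hc
    have : (Finset.univ : Finset n) ⊆ {i, j} := fun k _ => by
      by_cases hk : k = i
      · simp [hk]
      · simp [hc k hk]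
    have := Finset.card_le_card this
    have h2 := Finset.card_le_two (a := i) (b := j)
    simp at this
    omega
  obtain ⟨k, hki, hkj⟩ := this
  rw [show a = a * 1 from (mul_one a).symm,
    ← commutator_transvection (Ne.symm hki) hkj hij a 1]
  exact Subgroup.commutator_mem_commutator (Subgroup.mem_top _) (Subgroup.mem_top _)

theorem commutator_GL_le_ker_det :
    commutator (GL n F) ≤ (Matrix.GeneralLinearGroup.det : GL n F →* Fˣ).ker :=
  Abelianization.commutator_subset_ker _

/-- The commutator subgroup of `GL_n` is `SL_n` unless `n = 2` and `F` has two elements. -/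
theorem commutator_GL_eq (h : Fintype.card n = 2 → ∃ a : F, a ≠ 0 ∧ a ≠ 1) :
    commutator (GL n F) = (Matrix.GeneralLinearGroup.det : GL n F →* Fˣ).ker := by
  refine le_antisymm commutator_GL_le_ker_det ?_
  rw [← range_toGL_eq_ker_det, MonoidHom.range_eq_map, ← closure_transvectionSet,
    MonoidHom.map_closure, Subgroup.closure_le]
  rintro _ ⟨g, ⟨i, j, hij, c, rfl⟩, rfl⟩
  rcases le_or_gt 3 (Fintype.card n) with h3 | h3
  · have hmem : Matrix.SpecialLinearGroup.transvection hij c ∈ commutator SLn := by
      rw [commutator_SL_eq_top h3]; exact Subgroup.mem_top _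
    exact Abelianization.commutator_subset_ker (Abelianization.of.comp
      (Matrix.SpecialLinearGroup.toGL : SLn →* GL n F)) hmem |> fun hm => by
        rwa [MonoidHom.mem_ker, MonoidHom.comp_apply, ← MonoidHom.mem_ker,
          Abelianization.ker_of] at hm
  · have h2 : Fintype.card n = 2 := by
      have := Fintype.one_lt_card_iff_nontrivial.2 ⟨i, j, hij⟩
      omega
    obtain ⟨a, ha0, ha1⟩ := h h2
    have hd : (Matrix.diagonal (Function.update (1 : n → F) i a)).det = a := by
      rw [Matrix.det_diagonal, Finset.prod_update_of_mem (Finset.mem_univ i)]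
      simp
    let D : GL n F := Matrix.GeneralLinearGroup.mk''
      (Matrix.diagonal (Function.update (1 : n → F) i a)) (by rw [hd]; exact ha0.isUnit)
    let t : F → GL n F := fun b =>
      Matrix.SpecialLinearGroup.toGL (Matrix.SpecialLinearGroup.transvection hij b)
    have hadd : ∀ e e', t e * t e' = t (e + e') := fun e e' => by
      simp only [t, Matrix.SpecialLinearGroup.transvection_add, map_mul]
    have key : D * t (c / (a - 1)) = t c * t (c / (a - 1)) * D := by
      rw [hadd]
      apply Units.ext
      show Matrix.diagonal (Function.update (1 : n → F) i a) * (1 + Matrix.single i j (c / (a - 1)))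
        = (1 + Matrix.single i j (c + c / (a - 1))) * Matrix.diagonal (Function.update (1 : n → F) i a)
      ext x y
      rw [Matrix.diagonal_mul, Matrix.mul_diagonal]
      by_cases hx : i = x
      · subst hx
        by_cases hy : j = y
        · subst hy
          have : a - 1 ≠ 0 := sub_ne_zero.2 ha1
          simp [hij.symm, hij]
          field_simp
          ring
        · rcases eq_or_ne i y with rfl | hy' <;> simp [*, Function.update_of_ne, Ne.symm]
      · rcases eq_or_ne x y with rfl | hxy <;>
          simp [*, Ne.symm hx, Function.update_of_ne, Matrix.single_apply_of_row_ne]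
    have : t c = ⁅D, t (c / (a - 1))⁆ := by
      rw [commutatorElement_def, key]; group
    show t c ∈ commutator (GL n F)
    rw [this]
    exact Subgroup.commutator_mem_commutator (Subgroup.mem_top _) (Subgroup.mem_top _)

end Cfsg.Agent.LinGrp
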