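import Mathlib
import Cfsg.Agent.Lib.LinearGroups.Basic
import Cfsg.Agent.Lib.SmallSimple.Basic

/-!
Sylow subgroups in defining characteristic of `GL_n`, and in detail of `GL_2` and `SL_2`.
-/

set_option autoImplicit false

namespace Cfsg.Agent.LinGrp

open Matrix
open scoped MatrixGroups Pointwise

variable {F : Type*} [Field F]

/-- The prime-to-`p` factor of the order of `GL_n`. -/
theorem exists_card_GL_eq [Fintype F] (p : ℕ) [Fact p.Prime] [CharP F p] (n : ℕ) :
    ∃ f m : ℕ, Fintype.card F = p ^ f ∧ 0 < f ∧ ¬ p ∣ m ∧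
      Nat.card (GL (Fin n) F) = p ^ (f * (n * (n - 1) / 2)) * m := by
  obtain ⟨f, -, hf⟩ := FiniteField.card F p
  refine ⟨f, ∏ i : Fin n, (Fintype.card F ^ (n - (i : ℕ)) - 1), hf, f.2, ?_, ?_⟩
  · intro h
    obtain ⟨i, -, hi⟩ := ((Fact.out : p.Prime).prime.dvd_finsetProd_iff _).1 h
    have h1 : p ∣ Fintype.card F ^ (n - (i : ℕ)) :=
      dvd_pow (hf ▸ dvd_pow_self p f.2.ne') (by omega)
    have hpos : 0 < Fintype.card F ^ (n - (i : ℕ)) := pow_pos Fintype.card_pos _
    have h2 := Nat.dvd_sub h1 hi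
    rw [Nat.sub_sub_self (Nat.one_le_iff_ne_zero.2 hpos.ne')] at h2
    exact (Fact.out : p.Prime).one_lt.ne' (Nat.dvd_one.1 h2)
  · rw [Matrix.card_GL_field, pow_mul, ← hf, ← Finset.sum_range_id, ← Finset.prod_pow_eq_pow_sum,
      ← Fin.prod_univ_eq_prod_range (fun i => Fintype.card F ^ i) n, ← Finset.prod_mul_distrib]
    refine Finset.prod_congr rfl fun i _ => ?_
    rw [Nat.mul_sub, mul_one, ← pow_add, Nat.add_sub_cancel' i.2.le]

/-- A Sylow `p`-subgroup of `GL_n(q)`, `p` the characteristic, has order `q^(n(n-1)/2)`. -/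
theorem card_sylow_GL [Fintype F] (p : ℕ) [Fact p.Prime] [CharP F p] (n : ℕ)
    (P : Sylow p (GL (Fin n) F)) :
    Nat.card P = Fintype.card F ^ (n * (n - 1) / 2) := by
  obtain ⟨f, m, hf, -, hm, hG⟩ := exists_card_GL_eq (F := F) p n
  rw [SmallSimple.card_sylow_of_eq P hG hm, hf, ← pow_mul]

/-- The element `!![1,t;0,1]` of `SL_2`. -/
def uSL (t : F) : SL(2, F) := ⟨!![1, t; 0, 1], by simp [det_fin_two]⟩

/-- The element `!![1,0;t,1]` of `SL_2`. -/
def lSL (t : F) : SL(2, F) := ⟨!![1, 0; t, 1], by simp [det_fin_two]⟩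

theorem uSL_val (t : F) : (uSL t).1 = !![1, t; 0, 1] := rfl

theorem lSL_val (t : F) : (lSL t).1 = !![1, 0; t, 1] := rfl

theorem toGL_inj : Function.Injective
    (Matrix.SpecialLinearGroup.toGL : SL(2, F) → GL (Fin 2) F) :=
  fun _ _ h => Subtype.ext (congrArg Units.val h)

theorem uSL_add (s t : F) : uSL s * uSL t = uSL (s + t) := by
  apply Subtype.ext
  rw [Matrix.SpecialLinearGroup.coe_mul, uSL_val, uSL_val, uSL_val, Matrix.mul_fin_two]
  simp [add_comm]

theorem uSL_zero : uSL (0 : F) = 1 := by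
  ext i j
  fin_cases i <;> fin_cases j <;> simp [uSL]

/-- The upper unitriangular homomorphism `F → SL_2`. -/
def uSLHom : Multiplicative F →* SL(2, F) where
  toFun t := uSL t.toAdd
  map_one' := uSL_zero
  map_mul' s t := (uSL_add _ _).symm

theorem uSLHom_injective : Function.Injective (uSLHom (F := F)) := by
  intro s t h
  have := congrArg (fun A : SL(2, F) => A.1 0 1) h
  simpa [uSLHom, uSL_val] using this

/-- The upper unitriangular group of `SL_2`. -/
def uSLGroup (F : Type*) [Field F] : Subgroup SL(2, F) := (uSLHom (F := F)).range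

theorem uSL_mem (t : F) : uSL t ∈ uSLGroup F := ⟨Multiplicative.ofAdd t, rfl⟩

theorem mem_uSLGroup {g : SL(2, F)} : g ∈ uSLGroup F ↔ ∃ t, g = uSL t :=
  ⟨fun ⟨t, ht⟩ => ⟨t.toAdd, ht.symm⟩, fun ⟨t, ht⟩ => ht ▸ uSL_mem t⟩

/-- The upper unitriangular group of `GL_2`. -/
def uGLGroup (F : Type*) [Field F] : Subgroup (GL (Fin 2) F) :=
  (uSLGroup F).map Matrix.SpecialLinearGroup.toGL

/-- The element `!![1,t;0,1]` of `GL_2`. -/
def uGL (t : F) : GL (Fin 2) F := Matrix.SpecialLinearGroup.toGL (uSL t)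

theorem uGL_val (t : F) : (uGL t).1 = !![1, t; 0, 1] := rfl

theorem uGL_mem (t : F) : uGL t ∈ uGLGroup F := ⟨_, uSL_mem t, rfl⟩

theorem mem_uGLGroup {g : GL (Fin 2) F} : g ∈ uGLGroup F ↔ ∃ t, g = uGL t := by
  constructor
  · rintro ⟨a, ha, rfl⟩
    obtain ⟨t, rfl⟩ := mem_uSLGroup.1 ha
    exact ⟨t, rfl⟩
  · rintro ⟨t, rfl⟩
    exact uGL_mem t

theorem natCard_uSLGroup : Nat.card (uSLGroup F) = Nat.card F :=
  (Nat.card_congr (MonoidHom.ofInjective uSLHom_injective).toEquiv).symm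

theorem natCard_uGLGroup : Nat.card (uGLGroup F) = Nat.card F := by
  rw [uGLGroup, Subgroup.card_map_of_injective toGL_inj, natCard_uSLGroup]

theorem apply_zero_zero_ne {g : GL (Fin 2) F} (h : g.1 1 0 = 0) :
    g.1 0 0 ≠ 0 ∧ g.1 1 1 ≠ 0 := by
  have hd : g.1.det ≠ 0 := (g.1.isUnit_iff_isUnit_det.1 g.isUnit).ne_zero
  rw [det_fin_two, h, mul_zero, sub_zero] at hd
  exact ⟨left_ne_zero_of_mul hd, right_ne_zero_of_mul hd⟩

/-- An element moving some non-trivial upper unitriangular element into the upper unitriangular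
group is upper triangular. -/
theorem apply_one_zero_eq {g : GL (Fin 2) F} {s t : F} (ht : t ≠ 0)
    (h : g * uGL t = uGL s * g) : g.1 1 0 = 0 := by
  have h1 := congrArg (fun A : GL (Fin 2) F => A.1 1 1) h
  simp [uGL_val, Matrix.mul_apply, Fin.sum_univ_two] at h1
  tauto

theorem borel_mul_uGL {g : GL (Fin 2) F} (h : g.1 1 0 = 0) (t : F) :
    g * uGL t = uGL (g.1 0 0 * t / g.1 1 1) * g := by
  obtain ⟨-, h1⟩ := apply_zero_zero_ne h
  apply Units.ext
  ext i j
  fin_cases i <;> fin_cases j <;>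
    simp [uGL_val, Matrix.mul_apply, Fin.sum_univ_two, h, h1]
  field_simp
  ring

theorem mem_normalizer_uGLGroup {g : GL (Fin 2) F} :
    g ∈ Subgroup.normalizer (uGLGroup F : Set (GL (Fin 2) F)) ↔ g.1 1 0 = 0 := by
  constructor
  · intro hg
    obtain ⟨s, hs⟩ := mem_uGLGroup.1 ((Subgroup.mem_normalizer_iff.1 hg _).1 (uGL_mem 1))
    exact apply_one_zero_eq one_ne_zero (mul_inv_eq_iff_eq_mul.1 hs)
  · intro h
    obtain ⟨h0, h1⟩ := apply_zero_zero_ne h
    refine Subgroup.mem_normalizer_iff.2 fun x => ⟨fun hx => ?_, fun hx => ?_⟩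
    · obtain ⟨t, rfl⟩ := mem_uGLGroup.1 hx
      rw [borel_mul_uGL h, mul_inv_cancel_right]
      exact uGL_mem _
    · obtain ⟨s, hs⟩ := mem_uGLGroup.1 hx
      have h2 := borel_mul_uGL h (g.1 1 1 * s / g.1 0 0)
      have h3 : g.1 0 0 * (g.1 1 1 * s / g.1 0 0) / g.1 1 1 = s := by field_simp
      rw [h3, ← hs, inv_mul_cancel_right] at h2
      rw [← mul_left_cancel h2]
      exact uGL_mem _

theorem natCard_normalizer_uGLGroup [Finite F] :
    Nat.card (Subgroup.normalizer (uGLGroup F : Set (GL (Fin 2) F))) =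
      Nat.card F * (Nat.card F - 1) ^ 2 := by
  let e : Fˣ × Fˣ × F → Subgroup.normalizer (uGLGroup F : Set (GL (Fin 2) F)) := fun x =>
    ⟨GeneralLinearGroup.mkOfDetNeZero !![(x.1 : F), x.2.2; 0, (x.2.1 : F)]
      (by simp [det_fin_two]), mem_normalizer_uGLGroup.2 rfl⟩
  have he : Function.Bijective e := by
    constructor
    · rintro ⟨a, d, b⟩ ⟨a', d', b'⟩ h
      have h' : !![(a : F), b; 0, (d : F)] = !![(a' : F), b'; 0, (d' : F)] :=
        congrArg (fun x => x.1.1) h
      have ha := congrFun (congrFun h' 0) 0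
      have hb := congrFun (congrFun h' 0) 1
      have hd := congrFun (congrFun h' 1) 1
      simp at ha hb hd
      simp [Units.ext_iff, ha, hb, hd]
    · rintro ⟨g, hg⟩
      rw [mem_normalizer_uGLGroup] at hg
      obtain ⟨h0, h1⟩ := apply_zero_zero_ne hg
      refine ⟨⟨Units.mk0 _ h0, Units.mk0 _ h1, g.1 0 1⟩, Subtype.ext (Units.ext ?_)⟩
      ext i j
      fin_cases i <;> fin_cases j <;> simp [e, hg]
  rw [← Nat.card_congr (Equiv.ofBijective e he), Nat.card_prod, Nat.card_prod, Nat.card_units]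
  ring

theorem natCard_centralizer_uGL [Finite F] {t : F} (ht : t ≠ 0) :
    Nat.card (Subgroup.centralizer ({uGL t} : Set (GL (Fin 2) F))) =
      Nat.card F * (Nat.card F - 1) := by
  let e : Fˣ × F → Subgroup.centralizer ({uGL t} : Set (GL (Fin 2) F)) := fun x =>
    ⟨GeneralLinearGroup.mkOfDetNeZero !![(x.1 : F), x.2; 0, (x.1 : F)]
      (by simp [det_fin_two]), Subgroup.mem_centralizer_iff.2 fun y hy => by
        rw [Set.mem_singleton_iff] at hy
        subst hy
        apply Units.ext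
        ext i j
        fin_cases i <;> fin_cases j <;>
          simp [uGL_val, Matrix.mul_apply, Fin.sum_univ_two, mul_comm, add_comm]⟩
  have he : Function.Bijective e := by
    constructor
    · rintro ⟨a, b⟩ ⟨a', b'⟩ h
      have h' : !![(a : F), b; 0, (a : F)] = !![(a' : F), b'; 0, (a' : F)] :=
        congrArg (fun x => x.1.1) h
      have ha := congrFun (congrFun h' 0) 0
      have hb := congrFun (congrFun h' 0) 1
      simp at ha hb
      simp [Units.ext_iff, ha, hb]
    · rintro ⟨g, hg⟩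
      have hc : g * uGL t = uGL t * g :=
        (Subgroup.mem_centralizer_iff.1 hg (uGL t) rfl).symm
      have h10 : g.1 1 0 = 0 := apply_one_zero_eq ht hc
      obtain ⟨h0, -⟩ := apply_zero_zero_ne h10
      have h01 := congrArg (fun A : GL (Fin 2) F => A.1 0 1) hc
      simp [uGL_val, Matrix.mul_apply, Fin.sum_univ_two] at h01
      have heq : g.1 1 1 = g.1 0 0 := by
        have : t * (g.1 0 0 - g.1 1 1) = 0 := by linear_combination h01
        rcases mul_eq_zero.1 this with h | h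
        · exact absurd h ht
        · exact (sub_eq_zero.1 h).symm
      refine ⟨⟨Units.mk0 _ h0, g.1 0 1⟩, Subtype.ext (Units.ext ?_)⟩
      ext i j
      fin_cases i <;> fin_cases j <;> simp [e, h10, heq]
  rw [← Nat.card_congr (Equiv.ofBijective e he), Nat.card_prod, Nat.card_units, mul_comm]

variable [Fintype F] (p : ℕ) [Fact p.Prime] [CharP F p]

/-- The upper unitriangular group is a Sylow subgroup of `GL_2`. -/
theorem exists_sylow_eq_uGLGroup :
    ∃ P : Sylow p (GL (Fin 2) F), (P : Subgroup (GL (Fin 2) F)) = uGLGroup F := by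
  obtain ⟨f, -, hf⟩ := FiniteField.card F p
  have hU : Nat.card (uGLGroup F) = p ^ (f : ℕ) := by
    rw [natCard_uGLGroup, Nat.card_eq_fintype_card, hf]
  obtain ⟨P, hP⟩ := (IsPGroup.of_card hU).exists_le_sylow
  refine ⟨P, (Subgroup.eq_of_le_of_card_ge hP ?_).symm⟩
  rw [card_sylow_GL p 2 P, hU, hf]
  norm_num

theorem exists_conj_uGLGroup (P : Sylow p (GL (Fin 2) F)) :
    ∃ g : GL (Fin 2) F, ∀ x, x ∈ P ↔ g⁻¹ * x * g ∈ uGLGroup F := by
  obtain ⟨P₀, hP₀⟩ := exists_sylow_eq_uGLGroup (F := F) p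
  obtain ⟨g, rfl⟩ := MulAction.exists_smul_eq (GL (Fin 2) F) P₀ P
  refine ⟨g, fun x => ?_⟩
  rw [← hP₀]
  show x ∈ MulAut.conj g • (P₀ : Subgroup (GL (Fin 2) F)) ↔ _
  rw [Subgroup.mem_pointwise_smul_iff_inv_smul_mem]
  simp [MulAut.smul_def]

theorem natCard_sylow_GL2 : Nat.card (Sylow p (GL (Fin 2) F)) = Fintype.card F + 1 := by
  obtain ⟨P₀, hP₀⟩ := exists_sylow_eq_uGLGroup (F := F) p
  have h := SmallSimple.card_sylow_mul P₀
  rw [hP₀, natCard_normalizer_uGLGroup, Matrix.card_GL_field, Fin.prod_univ_two,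
    Nat.card_eq_fintype_card (α := F)] at h
  obtain ⟨q, hq⟩ : ∃ q, Fintype.card F = q + 1 := ⟨_, (Nat.sub_add_cancel Fintype.card_pos).symm⟩
  have hq0 : q ≠ 0 := by
    have := Fintype.one_lt_card (α := F)
    omega
  rw [hq] at h ⊢
  simp only [Fin.val_zero, Fin.val_one, pow_zero, pow_one, Nat.add_sub_cancel] at h
  have h1 : (q + 1) ^ 2 - 1 = q * (q + 2) := by
    rw [Nat.sub_eq_iff_eq_add (by nlinarith)]; ring
  have h2 : (q + 1) ^ 2 - (q + 1) = (q + 1) * q := by
    rw [Nat.sub_eq_iff_eq_add (by nlinarith)]; ring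
  rw [h1, h2] at h
  refine Nat.eq_of_mul_eq_mul_right (show 0 < (q + 1) * q ^ 2 by positivity) (h.trans ?_)
  ring

theorem natCard_normalizer_sylow_GL2 (P : Sylow p (GL (Fin 2) F)) :
    Nat.card (Subgroup.normalizer ((P : Subgroup (GL (Fin 2) F)) : Set (GL (Fin 2) F))) =
      Fintype.card F * (Fintype.card F - 1) ^ 2 := by
  obtain ⟨P₀, hP₀⟩ := exists_sylow_eq_uGLGroup (F := F) p
  have h := SmallSimple.card_sylow_mul P
  have h0 := SmallSimple.card_sylow_mul P₀
  rw [hP₀, natCard_normalizer_uGLGroup, ← h, Nat.card_eq_fintype_card (α := F)] at h0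
  exact (Nat.eq_of_mul_eq_mul_left Nat.card_pos h0).symm

theorem sylow_GL2_inf_eq_bot (P Q : Sylow p (GL (Fin 2) F)) (h : P ≠ Q) :
    (P : Subgroup (GL (Fin 2) F)) ⊓ Q = ⊥ := by
  obtain ⟨g, hg⟩ := exists_conj_uGLGroup p P
  obtain ⟨k, hk⟩ := exists_conj_uGLGroup p Q
  rw [Subgroup.eq_bot_iff_forall]
  intro x hx
  by_contra hx1
  obtain ⟨t, ht⟩ := mem_uGLGroup.1 ((hg x).1 hx.1)
  obtain ⟨s, hs⟩ := mem_uGLGroup.1 ((hk x).1 hx.2)
  have ht0 : t ≠ 0 := by
    rintro rfl
    rw [show uGL (0 : F) = 1 by rw [uGL, uSL_zero, map_one]] at ht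
    exact hx1 (by simpa [mul_assoc, inv_mul_eq_one, eq_comm] using ht)
  have h10 : (k⁻¹ * g).1 1 0 = 0 := apply_one_zero_eq ht0
    (show k⁻¹ * g * uGL t = uGL s * (k⁻¹ * g) by rw [← ht, ← hs]; group)
  refine h (Sylow.ext (Subgroup.ext fun y => ?_))
  show y ∈ P ↔ y ∈ Q
  rw [hg, hk, Subgroup.mem_normalizer_iff.1 (mem_normalizer_uGLGroup.2 h10)]
  constructor <;> intro hy <;> convert hy using 1 <;> group

theorem natCard_centralizer_GL2 (P : Sylow p (GL (Fin 2) F)) (a : GL (Fin 2) F) (ha : a ∈ P)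
    (ha1 : a ≠ 1) :
    Nat.card (Subgroup.centralizer ({a} : Set (GL (Fin 2) F))) =
      Fintype.card F * (Fintype.card F - 1) := by
  obtain ⟨g, hg⟩ := exists_conj_uGLGroup p P
  obtain ⟨t, ht⟩ := mem_uGLGroup.1 ((hg a).1 ha)
  have ha' : a = g * uGL t * g⁻¹ := by rw [← ht]; group
  have ht0 : t ≠ 0 := by
    rintro rfl
    refine ha1 ?_
    rw [ha', show uGL (0 : F) = 1 by rw [uGL, uSL_zero, map_one]]
    group
  rw [← Nat.card_eq_fintype_card (α := F), ← natCard_centralizer_uGL ht0]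
  let e : GL (Fin 2) F ≃* GL (Fin 2) F := MulAut.conj g
  have hmap : (Subgroup.centralizer ({uGL t} : Set (GL (Fin 2) F))).map e.toMonoidHom =
      Subgroup.centralizer ({a} : Set (GL (Fin 2) F)) := by
    ext x
    rw [Subgroup.mem_map_equiv, Subgroup.mem_centralizer_singleton_iff,
      Subgroup.mem_centralizer_singleton_iff, ha']
    simp only [e, MulAut.conj_symm_apply]
    constructor <;> intro hx
    · calc x * (g * uGL t * g⁻¹) = g * (g⁻¹ * x * g * uGL t) * g⁻¹ := by group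
        _ = g * (uGL t * (g⁻¹ * x * g)) * g⁻¹ := by rw [hx]
        _ = _ := by group
    · calc g⁻¹ * x * g * uGL t = g⁻¹ * (x * (g * uGL t * g⁻¹)) * g := by group
        _ = g⁻¹ * ((g * uGL t * g⁻¹) * x) * g := by rw [hx]
        _ = _ := by group
  rw [← hmap, Subgroup.card_map_of_injective e.injective]

/-- Two distinct Sylow `p`-subgroups generate `SL_2`. -/
theorem sylow_SL2_sup_eq_top (P Q : Sylow p SL(2, F)) (h : P ≠ Q) :
    (P : Subgroup SL(2, F)) ⊔ Q = ⊤ := by
  obtain ⟨f, hf0, hf⟩ := FiniteField.card F p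
  have hcard : Nat.card SL(2, F) = p ^ (f : ℕ) * ((Fintype.card F - 1) * (Fintype.card F + 1)) := by
    have h2 := natCard_SL_mul (F := F) 2 (by omega)
    obtain ⟨q, hq⟩ : ∃ q, Fintype.card F = q + 1 := ⟨_, (Nat.sub_add_cancel Fintype.card_pos).symm⟩
    have hq0 : q ≠ 0 := by
      have := Fintype.one_lt_card (α := F)
      omega
    rw [Fin.prod_univ_two, hq] at h2
    rw [← hf, hq]
    simp only [Fin.val_zero, Fin.val_one, pow_zero, pow_one, Nat.add_sub_cancel] at h2 ⊢
    have e1 : (q + 1) ^ 2 - 1 = q * (q + 2) := by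
      rw [Nat.sub_eq_iff_eq_add (by nlinarith)]; ring
    have e2 : (q + 1) ^ 2 - (q + 1) = (q + 1) * q := by
      rw [Nat.sub_eq_iff_eq_add (by nlinarith)]; ring
    rw [e1, e2] at h2
    refine Nat.eq_of_mul_eq_mul_left (Nat.pos_of_ne_zero hq0) (h2.trans ?_)
    ring
  have hm : ¬ p ∣ (Fintype.card F - 1) * (Fintype.card F + 1) := by
    have hdvd : p ∣ Fintype.card F := hf ▸ dvd_pow_self p f.pos.ne'
    intro hd
    rcases (Fact.out : p.Prime).dvd_mul.1 hd with h1 | h1
    · have h3 := Nat.dvd_sub hdvd h1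
      rw [Nat.sub_sub_self Fintype.card_pos] at h3
      exact (Fact.out : p.Prime).not_dvd_one h3
    · exact (Fact.out : p.Prime).not_dvd_one ((Nat.dvd_add_right hdvd).1 h1)
  have hU : Nat.card (uSLGroup F) = p ^ (f : ℕ) := by
    rw [natCard_uSLGroup, Nat.card_eq_fintype_card, hf]
  obtain ⟨P₀, hP₀⟩ := (IsPGroup.of_card hU).exists_le_sylow
  have hP₀' : uSLGroup F = (P₀ : Subgroup SL(2, F)) := Subgroup.eq_of_le_of_card_ge hP₀
    (by rw [hU, SmallSimple.card_sylow_of_eq P₀ hcard hm])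
  obtain ⟨g, rfl⟩ := MulAction.exists_smul_eq SL(2, F) P₀ P
  obtain ⟨k, rfl⟩ := MulAction.exists_smul_eq SL(2, F) P₀ Q
  set S := ((g • P₀ : Sylow p SL(2, F)) : Subgroup SL(2, F)) ⊔
    ((k • P₀ : Sylow p SL(2, F)) : Subgroup SL(2, F))
  have hg : ∀ y ∈ uSLGroup F, g * y * g⁻¹ ∈ S := fun y hy => Subgroup.mem_sup_left
    ⟨y, hP₀' ▸ hy, rfl⟩
  have hk : ∀ y ∈ uSLGroup F, k * y * k⁻¹ ∈ S := fun y hy => Subgroup.mem_sup_right
    ⟨y, hP₀' ▸ hy, rfl⟩
  -- the relative position
  have hc : (g⁻¹ * k).1 1 0 ≠ 0 := by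
    intro h10
    refine h (Sylow.ext (Subgroup.ext fun x => ?_))
    show x ∈ MulAut.conj g • (P₀ : Subgroup SL(2, F)) ↔ x ∈ MulAut.conj k • (P₀ : Subgroup SL(2, F))
    rw [Subgroup.mem_pointwise_smul_iff_inv_smul_mem, Subgroup.mem_pointwise_smul_iff_inv_smul_mem,
      ← hP₀']
    simp only [MulAut.smul_def, MulAut.inv_def, MulAut.conj_symm_apply]
    have hn := Subgroup.mem_normalizer_iff.1
      ((mem_normalizer_uGLGroup (g := Matrix.SpecialLinearGroup.toGL (g⁻¹ * k))).2 h10)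
      (Matrix.SpecialLinearGroup.toGL (k⁻¹ * x * k))
    rw [← map_inv, ← map_mul, ← map_mul, uGLGroup, Subgroup.mem_map_iff_mem,
      Subgroup.mem_map_iff_mem] at hn
    · rw [hn]
      constructor <;> intro hy <;> convert hy using 1 <;> group
    all_goals exact fun A B h => Subtype.ext (congrArg Units.val h)
  set w := g⁻¹ * k with hw
  set x : F := -(w.1 0 0) / w.1 1 0 with hx
  set v := uSL x * w with hv
  have hv00 : v.1 0 0 = 0 := by
    simp [hv, hx, uSL_val, Matrix.mul_apply, Fin.sum_univ_two]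
    field_simp
    ring
  have hv10 : v.1 1 0 = w.1 1 0 := by
    simp [hv, uSL_val, Matrix.mul_apply, Fin.sum_univ_two]
  have hl : ∀ s : F, g * lSL s * g⁻¹ ∈ S := by
    intro s
    have he : lSL s * v = v * uSL (s * v.1 0 1 / v.1 1 0) := by
      ext i j
      fin_cases i <;> fin_cases j <;>
        simp [lSL_val, uSL_val, Matrix.mul_apply, Fin.sum_univ_two, hv00]
      field_simp [show v.1 1 0 ≠ 0 by rw [hv10]; exact hc]
    have h1 : g * uSL x * g⁻¹ ∈ S := hg _ (uSL_mem _)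
    have h2 := S.mul_mem (S.mul_mem h1 (hk _ (uSL_mem (s * v.1 0 1 / v.1 1 0)))) (S.inv_mem h1)
    convert h2 using 1
    rw [show lSL s = v * uSL (s * v.1 0 1 / v.1 1 0) * v⁻¹ by rw [← he]; group]
    simp only [hv, hw]
    group
  have hall : ∀ y : SL(2, F), g * y * g⁻¹ ∈ S := by
    intro y
    have : y ∈ S.comap (MulAut.conj g).toMonoidHom := by
      have htop : S.comap (MulAut.conj g).toMonoidHom = ⊤ := by
        rw [eq_top_iff, ← closure_transvectionSet, Subgroup.closure_le]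
        rintro _ ⟨i, j, hij, a, rfl⟩
        fin_cases i <;> fin_cases j <;> first | (exact absurd rfl hij) | skip
        · have he : Matrix.SpecialLinearGroup.transvection hij a = uSL a := by
            ext i j
            fin_cases i <;> fin_cases j <;>
              simp [uSL_val, Matrix.SpecialLinearGroup.transvection_coe, Matrix.single]
          rw [he]
          exact hg _ (uSL_mem a)
        · have he : Matrix.SpecialLinearGroup.transvection hij a = lSL a := by
            ext i j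
            fin_cases i <;> fin_cases j <;>
              simp [lSL_val, Matrix.SpecialLinearGroup.transvection_coe, Matrix.single]
          rw [he]
          exact hl a
      rw [htop]; exact Subgroup.mem_top _
    exact this
  rw [eq_top_iff]
  intro y _
  have := hall (g⁻¹ * y * g)
  rwa [show g * (g⁻¹ * y * g) * g⁻¹ = y by group] at this

end Cfsg.Agent.LinGrp
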