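import Mathlib
import Cfsg.Prelude.Def_LieClassical

/-!
Numbers of vectors of given value for Hermitian and quadratic forms over finite fields.
-/

set_option autoImplicit false

namespace Cfsg.Agent.FormCount

variable {F : Type*} [Field F] [Fintype F]

theorem card_sum_eq {A B V : Type*} [Fintype A] [Finite B] (e : V ≃ A × B) (Q : V → F) (g : A → F)
    (h : B → F) (hQ : ∀ a b, Q (e.symm (a, b)) = g a + h b) (c : F) :
    Nat.card {v : V // Q v = c} = ∑ a, Nat.card {b : B // h b = c - g a} := by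
  rw [← Nat.card_sigma]
  refine Nat.card_congr ((Equiv.subtypeEquiv e (q := fun p => g p.1 + h p.2 = c) fun v => ?_).trans
    { toFun := fun p => ⟨p.1.1, p.1.2, eq_sub_of_add_eq' p.2⟩
      invFun := fun p => ⟨(p.1, p.2.1), by
        show g p.1 + h p.2.1 = c
        rw [p.2.2, add_sub_cancel]⟩
      left_inv := fun _ => rfl
      right_inv := fun _ => rfl })
  obtain ⟨⟨a, b⟩, rfl⟩ := e.symm.surjective v
  rw [Equiv.apply_symm_apply, hQ]

theorem sum_indicator {A : Type*} [Fintype A] [DecidableEq F] (g : A → F) (c : F) :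
    ∑ a, (if c - g a = 0 then (1 : ℤ) else 0) = Nat.card {a : A // g a = c} := by
  rw [Finset.sum_boole, Nat.card_eq_fintype_card, Fintype.card_subtype]
  congr 2
  ext a
  simp [sub_eq_zero, eq_comm]

/-- Counting step: `q f(c) = u + v (q [c = 0] - 1)` propagates through an orthogonal sum. -/
theorem step [DecidableEq F] {A B V : Type*} [Fintype A] [Finite B] (e : V ≃ A × B) (Q : V → F)
    (g : A → F) (h : B → F) (hQ : ∀ a b, Q (e.symm (a, b)) = g a + h b) (q : ℤ) (u v : ℤ) (c : F)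
    (hh : ∀ a, q * Nat.card {b : B // h b = c - g a} =
      u + v * (q * (if c - g a = 0 then 1 else 0) - 1)) :
    q * Nat.card {x : V // Q x = c} =
      Fintype.card A * (u - v) + v * q * Nat.card {a : A // g a = c} := by
  rw [card_sum_eq e Q g h hQ c, Nat.cast_sum, Finset.mul_sum, Finset.sum_congr rfl (fun a _ => hh a)]
  simp only [Finset.sum_add_distrib, mul_sub, mul_one, Finset.sum_sub_distrib, Finset.sum_const,
    Finset.card_univ, nsmul_eq_mul, ← Finset.mul_sum, sum_indicator g c]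
  ring

theorem card_mul_eq [DecidableEq F] (c : F) :
    Nat.card {p : F × F // p.1 * p.2 = c} =
      if c = 0 then 2 * Fintype.card F - 1 else Fintype.card F - 1 := by
  have h : Nat.card {p : F × F // p.1 * p.2 = c} = ∑ x : F, Nat.card {y : F // x * y = c} := by
    rw [← Nat.card_sigma]
    exact Nat.card_congr
      { toFun := fun p => ⟨p.1.1, p.1.2, p.2⟩
        invFun := fun p => ⟨(p.1, p.2.1), p.2.2⟩
        left_inv := fun _ => rfl
        right_inv := fun _ => rfl }
  rw [h, ← Finset.add_sum_erase _ _ (Finset.mem_univ (0 : F))]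
  have h1 : ∀ x ∈ Finset.univ.erase (0 : F), Nat.card {y : F // x * y = c} = 1 := by
    intro x hx
    rw [Nat.card_eq_one_iff_unique]
    have hx0 := (Finset.mem_erase.1 hx).1
    exact ⟨⟨fun y z => Subtype.ext (mul_left_cancel₀ hx0 (y.2.trans z.2.symm))⟩,
      ⟨⟨c / x, by field_simp⟩⟩⟩
  rw [Finset.sum_congr rfl h1, Finset.sum_const, smul_eq_mul, mul_one,
    Finset.card_erase_of_mem (Finset.mem_univ _), Finset.card_univ]
  have := Fintype.card_pos (α := F)
  by_cases hc : c = 0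
  · subst hc
    rw [if_pos rfl, Nat.card_congr (Equiv.subtypeUnivEquiv fun y => zero_mul y),
      Nat.card_eq_fintype_card]
    omega
  · haveI : IsEmpty {y : F // (0 : F) * y = c} := ⟨fun y => hc (by rw [← y.2, zero_mul])⟩
    rw [if_neg hc, Nat.card_of_isEmpty]
    omega

/-- Splitting off a hyperbolic pair. -/
def plusEquiv (m : ℕ) (F : Type*) : (Fin (m + 1) ⊕ Fin (m + 1) → F) ≃ (F × F) × (Fin m ⊕ Fin m → F) where
  toFun v := ((v (.inl 0), v (.inr 0)), Sum.elim (fun i => v (.inl i.succ)) (fun i => v (.inr i.succ)))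
  invFun p := Sum.elim (Fin.cons p.1.1 fun i => p.2 (.inl i)) (Fin.cons p.1.2 fun i => p.2 (.inr i))
  left_inv v := by
    funext i
    rcases i with i | i <;> refine Fin.cases ?_ (fun j => ?_) i <;> simp
  right_inv p := by
    obtain ⟨⟨x, y⟩, w⟩ := p
    refine Prod.ext (Prod.ext (by simp) (by simp)) ?_
    funext i
    rcases i with i | i <;> simp

theorem plusEquiv_quad (m : ℕ) (a : F × F) (b : Fin m ⊕ Fin m → F) :
    Cfsg.quadFormPlus (m + 1) F ((plusEquiv m F).symm (a, b)) =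
      a.1 * a.2 + Cfsg.quadFormPlus m F b := by
  simp [Cfsg.quadFormPlus, plusEquiv, Fin.sum_univ_succ]

theorem card_plus [DecidableEq F] (m : ℕ) (c : F) :
    (Fintype.card F : ℤ) * Nat.card {v : Fin m ⊕ Fin m → F // Cfsg.quadFormPlus m F v = c} =
      (Fintype.card F : ℤ) ^ (2 * m) +
        (Fintype.card F : ℤ) ^ m * ((Fintype.card F : ℤ) * (if c = 0 then 1 else 0) - 1) := by
  induction m generalizing c with
  | zero =>
    by_cases hc : c = 0
    · subst hc
      rw [Nat.card_congr (Equiv.subtypeUnivEquiv fun v => by simp [Cfsg.quadFormPlus]), Nat.card_unique]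
      simp
    · haveI : IsEmpty {v : Fin 0 ⊕ Fin 0 → F // Cfsg.quadFormPlus 0 F v = c} :=
        ⟨fun v => hc (v.2.symm.trans (by simp [Cfsg.quadFormPlus]))⟩
      simp [hc]
  | succ m ih =>
    rw [step (plusEquiv m F) _ _ _ (plusEquiv_quad m) _ _ _ c (fun a => ih _), card_mul_eq,
      Fintype.card_prod]
    obtain ⟨k, hk⟩ : ∃ k, Fintype.card F = k + 1 :=
      ⟨_, (Nat.sub_add_cancel Fintype.card_pos).symm⟩
    rw [hk]
    split_ifs with hc
    · have h : 2 * (k + 1) - 1 = 2 * k + 1 := by omega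
      rw [h]; push_cast; ring
    · rw [Nat.add_sub_cancel]; push_cast; ring

theorem card_minus [DecidableEq F] (m : ℕ) (a b : F)
    (hab : ∀ z₁ z₂ : F, z₁ ^ 2 + a * z₁ * z₂ + b * z₂ ^ 2 = 0 → z₁ = 0 ∧ z₂ = 0) :
    (Fintype.card F : ℤ) * Nat.card {v // Cfsg.quadFormMinus m F a b v = 0} =
      (Fintype.card F : ℤ) ^ (2 * m + 2) -
        (Fintype.card F : ℤ) ^ (m + 1) * ((Fintype.card F : ℤ) - 1) := by
  let e : ((Fin m ⊕ Fin m) ⊕ Fin 2 → F) ≃ (Fin 2 → F) × (Fin m ⊕ Fin m → F) :=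
    (Equiv.sumArrowEquivProdArrow _ _ _).trans (Equiv.prodComm _ _)
  let g : (Fin 2 → F) → F := fun z => z 0 ^ 2 + a * z 0 * z 1 + b * z 1 ^ 2
  have hQ : ∀ z w, Cfsg.quadFormMinus m F a b (e.symm (z, w)) = g z + Cfsg.quadFormPlus m F w := by
    intro z w
    simp [e, g, Cfsg.quadFormMinus, Cfsg.quadFormPlus]
    ring
  rw [step e _ g _ hQ _ _ _ 0 (fun z => card_plus m _)]
  have h1 : Nat.card {z : Fin 2 → F // g z = 0} = 1 := by
    rw [Nat.card_eq_one_iff_unique]
    refine ⟨⟨fun z w => Subtype.ext ?_⟩, ⟨⟨0, by simp [g]⟩⟩⟩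
    funext i
    obtain ⟨hz0, hz1⟩ := hab _ _ z.2
    obtain ⟨hw0, hw1⟩ := hab _ _ w.2
    fin_cases i <;> simp [hz0, hz1, hw0, hw1]
  rw [h1, Fintype.card_fun, Fintype.card_fin]
  push_cast
  ring

theorem card_odd [DecidableEq F] (m : ℕ) :
    (Fintype.card F : ℤ) * Nat.card {v // Cfsg.quadFormOdd m F v = 0} =
      (Fintype.card F : ℤ) ^ (2 * m + 1) := by
  let e : (Unit ⊕ (Fin m ⊕ Fin m) → F) ≃ F × (Fin m ⊕ Fin m → F) :=
    (Equiv.sumArrowEquivProdArrow _ _ _).trans ((Equiv.funUnique Unit F).prodCongr (Equiv.refl _))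
  have hQ : ∀ x w, Cfsg.quadFormOdd m F (e.symm (x, w)) = x ^ 2 + Cfsg.quadFormPlus m F w := by
    intro x w
    simp [e, Cfsg.quadFormOdd, Cfsg.quadFormPlus]
  rw [step e _ (fun x => x ^ 2) _ hQ _ _ _ 0 (fun z => card_plus m _)]
  have h1 : Nat.card {x : F // x ^ 2 = 0} = 1 := by
    rw [Nat.card_eq_one_iff_unique]
    exact ⟨⟨fun z w => Subtype.ext ((pow_eq_zero_iff two_ne_zero).1 z.2 |>.trans
      ((pow_eq_zero_iff two_ne_zero).1 w.2).symm)⟩, ⟨⟨0, by simp⟩⟩⟩
  rw [h1]
  push_cast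
  ring

section Herm

variable {q : ℕ} (hF : Fintype.card F = q ^ 2)
include hF

theorem two_le_q : 2 ≤ q := by
  by_contra h
  have h2 := Fintype.one_lt_card (α := F)
  rw [hF] at h2
  interval_cases q <;> simp at h2

theorem pow_q_add (x y : F) : (x + y) ^ q = x ^ q + y ^ q := by
  obtain ⟨p, hchar⟩ := CharP.exists F
  obtain ⟨⟨k, hk⟩, hp, hcard⟩ := FiniteField.card F p
  have := Fact.mk hp
  have hcard' : q ^ 2 = p ^ k := hF ▸ hcard
  obtain ⟨f, -, hq⟩ := (Nat.dvd_prime_pow hp).1 (hcard' ▸ dvd_pow_self q two_ne_zero)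
  rw [hq]
  exact add_pow_char_pow x y p f

theorem pow_q_sub (x y : F) : (x - y) ^ q = x ^ q - y ^ q := by
  rw [eq_sub_iff_add_eq, ← pow_q_add hF, sub_add_cancel]

theorem norm_fixed (x : F) : (x ^ (q + 1)) ^ q = x ^ (q + 1) := by
  rw [← pow_mul, show (q + 1) * q = q ^ 2 + q by ring, pow_add, ← hF, FiniteField.pow_card,
    ← pow_succ']

theorem card_norm_eq [DecidableEq F] {c : F} (hc : c ^ q = c) :
    Nat.card {x : F // x ^ (q + 1) = c} = if c = 0 then 1 else q + 1 := by
  have hq := two_le_q hF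
  split_ifs with h0
  · subst h0
    rw [Nat.card_eq_one_iff_unique]
    exact ⟨⟨fun z w => Subtype.ext ((pow_eq_zero_iff (by omega)).1 z.2 |>.trans
      ((pow_eq_zero_iff (by omega)).1 w.2).symm)⟩, ⟨⟨0, by simp⟩⟩⟩
  · have e : {x : F // x ^ (q + 1) = c} ≃ {x : Fˣ // x ^ (q + 1) = Units.mk0 c h0} :=
      { toFun := fun x => ⟨Units.mk0 x.1 (fun h => h0 (by rw [← x.2, h, zero_pow (by omega)])),
          Units.ext (by simp [x.2])⟩
        invFun := fun x => ⟨x.1.1, by simpa using congrArg Units.val x.2⟩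
        left_inv := fun _ => rfl
        right_inv := fun _ => Subtype.ext (Units.ext rfl) }
    rw [Nat.card_congr e]
    obtain ⟨k, hk⟩ : ∃ k, q = k + 1 := ⟨q - 1, by omega⟩
    have hcard : Nat.card Fˣ = (q + 1) * k := by
      rw [Nat.card_units, Nat.card_eq_fintype_card, hF, hk, Nat.sub_eq_iff_eq_add (by nlinarith)]
      ring
    have hck : (Units.mk0 c h0) ^ k = 1 := by
      refine Units.ext (mul_right_cancel₀ h0 ?_)
      rw [Units.val_pow_eq_pow_val, Units.val_mk0, Units.val_one, one_mul, ← pow_succ, ← hk, hc]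
    set f : Fˣ →* Fˣ := powMonoidHom (q + 1)
    have hker : Nat.card f.ker = q + 1 := by
      rw [IsCyclic.card_powMonoidHom_ker, hcard, Nat.gcd_mul_right_left]
    have hrange : Nat.card f.range = k := by
      rw [IsCyclic.card_powMonoidHom_range, hcard, Nat.gcd_mul_right_left,
        Nat.mul_div_cancel_left _ (by omega)]
    have hle : f.range ≤ (powMonoidHom k : Fˣ →* Fˣ).ker := by
      rintro _ ⟨x, rfl⟩
      show (x ^ (q + 1)) ^ k = 1
      rw [← pow_mul, ← hcard, pow_card_eq_one']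
    have heq := Subgroup.eq_of_le_of_card_ge hle (by
      rw [IsCyclic.card_powMonoidHom_ker, hcard, hrange, Nat.gcd_mul_left_left])
    obtain ⟨x₀, hx₀⟩ : Units.mk0 c h0 ∈ f.range := by rw [heq]; exact hck
    refine Eq.trans (Nat.card_congr (β := f.ker)
      { toFun := fun x => ⟨x.1 * x₀⁻¹, by
          show f (x.1 * x₀⁻¹) = 1
          rw [map_mul, map_inv, hx₀, mul_inv_eq_one]
          exact x.2⟩
        invFun := fun x => ⟨x.1 * x₀, by
          show f (x.1 * x₀) = _
          rw [map_mul, hx₀, show f x.1 = 1 from x.2, one_mul]⟩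
        left_inv := fun x => Subtype.ext (inv_mul_cancel_right x.1 x₀)
        right_inv := fun x => Subtype.ext (mul_inv_cancel_right x.1 x₀) }) hker

theorem card_herm [DecidableEq F] (n : ℕ) (c : F) (hc : c ^ q = c) :
    (q : ℤ) * Nat.card {v : Fin n → F // Cfsg.hermForm n F q v v = c} =
      (q : ℤ) ^ (2 * n) + (-1) ^ n * (q : ℤ) ^ n * ((q : ℤ) * (if c = 0 then 1 else 0) - 1) := by
  induction n generalizing c with
  | zero =>
    by_cases h0 : c = 0
    · subst h0
      rw [Nat.card_congr (Equiv.subtypeUnivEquiv fun v => by simp [Cfsg.hermForm]), Nat.card_unique]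
      simp
    · haveI : IsEmpty {v : Fin 0 → F // Cfsg.hermForm 0 F q v v = c} :=
        ⟨fun v => h0 (v.2.symm.trans (by simp [Cfsg.hermForm]))⟩
      simp [h0]
  | succ n ih =>
    have hQ : ∀ (x : F) (w : Fin n → F),
        Cfsg.hermForm (n + 1) F q ((Fin.consEquiv fun _ => F) (x, w)) ((Fin.consEquiv fun _ => F) (x, w))
          = x ^ (q + 1) + Cfsg.hermForm n F q w w := by
      intro x w
      simp [Cfsg.hermForm, Fin.sum_univ_succ, pow_succ']
    rw [step (Fin.consEquiv fun _ => F).symm _ (fun x => x ^ (q + 1))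
      (fun w => Cfsg.hermForm n F q w w) hQ _ _ _ c (fun x => ih _ (by rw [pow_q_sub hF, hc, norm_fixed hF])),
      card_norm_eq hF hc, hF]
    split_ifs with h0
    · push_cast; ring
    · push_cast; ring

end Herm

end Cfsg.Agent.FormCount
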