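import Mathlib
import Cfsg.Agent.Lib.LinearGroups.FormCount
import Cfsg.Agent.Lib.Forms.UnitaryFin

/-!
Orders and centres of `GU_n(q)`, `SU_n(q)` and `PSU_n(q)`.
-/

set_option autoImplicit false

namespace Cfsg.Agent.UnitaryOrder

open Matrix

variable {F : Type*} [Field F]

/-- `diag(1, A)`. -/
def blockM (n : ℕ) : Matrix (Fin n) (Fin n) F →* Matrix (Fin (n + 1)) (Fin (n + 1)) F where
  toFun A := Matrix.of (Fin.cons (Fin.cons 1 0) (fun i => Fin.cons 0 (A i)))
  map_one' := by
    ext i j
    refine Fin.cases ?_ (fun i => ?_) i <;> refine Fin.cases ?_ (fun j => ?_) j <;>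
      simp [Matrix.one_apply, Fin.succ_ne_zero, (Fin.succ_ne_zero _).symm]
  map_mul' A B := by
    ext i j
    refine Fin.cases ?_ (fun i => ?_) i <;> refine Fin.cases ?_ (fun j => ?_) j <;>
      simp [Matrix.mul_apply, Fin.sum_univ_succ]

theorem blockM_mulVec (n : ℕ) (A : Matrix (Fin n) (Fin n) F) (v : Fin (n + 1) → F) :
    blockM n A *ᵥ v = Fin.cons (v 0) (A *ᵥ fun i => v i.succ) := by
  ext i
  refine Fin.cases ?_ (fun i => ?_) i <;> simp [blockM, Matrix.mulVec, dotProduct, Fin.sum_univ_succ]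

variable {q : ℕ}

theorem hermForm_cons (n : ℕ) (x y : F) (u v : Fin n → F) :
    hermForm (n + 1) F q (Fin.cons x u) (Fin.cons y v) = x * y ^ q + hermForm n F q u v := by
  simp [hermForm, Fin.sum_univ_succ]

/-- The embedding `GU_n → GU_{n+1}`. -/
def guSucc (n : ℕ) : GU n F q →* GU (n + 1) F q :=
  ((Units.map (blockM n)).comp (GU n F q).subtype).codRestrict _ fun A u v => by
    show hermForm (n + 1) F q (blockM n A.1.1 *ᵥ u) (blockM n A.1.1 *ᵥ v) = _
    rw [blockM_mulVec, blockM_mulVec, hermForm_cons,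
      show hermForm n F q (A.1.1 *ᵥ fun i => u i.succ) (A.1.1 *ᵥ fun i => v i.succ) = _ from
        A.2 _ _]
    simp [hermForm, Fin.sum_univ_succ]

theorem guSucc_val (n : ℕ) (A : GU n F q) : (guSucc n A).1.1 = blockM n A.1.1 := rfl

theorem guSucc_injective (n : ℕ) : Function.Injective (guSucc (F := F) (q := q) n) := by
  intro A B h
  refine Subtype.ext (Units.ext (Matrix.ext fun i j => ?_))
  have := congrArg (fun X : GU (n + 1) F q => X.1.1 i.succ j.succ) h
  simpa [guSucc_val, blockM] using this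

theorem mem_GU_iff {n : ℕ} {g : GL (Fin n) F} :
    g ∈ GU n F q ↔ ∀ u v, hermForm n F q (g.1 *ᵥ u) (g.1 *ᵥ v) = hermForm n F q u v := Iff.rfl

theorem hermForm_single {n : ℕ} (hq : q ≠ 0) (i : Fin n) (v : Fin n → F) :
    hermForm n F q v (Pi.single i 1) = v i := by
  simp [hermForm, Pi.single_apply, ite_pow, zero_pow hq]

theorem hermForm_single_left {n : ℕ} (i : Fin n) (v : Fin n → F) :
    hermForm n F q (Pi.single i 1) v = v i ^ q := by
  simp [hermForm, Pi.single_apply]

theorem blockM_of_fix {n : ℕ} (hq : q ≠ 0) {g : GL (Fin (n + 1)) F} (hg : g ∈ GU (n + 1) F q)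
    (he : g.1 *ᵥ Pi.single 0 1 = Pi.single 0 1) :
    g.1 = blockM n (g.1.submatrix Fin.succ Fin.succ) := by
  have hcol : ∀ i, g.1 i 0 = (Pi.single 0 1 : Fin (n + 1) → F) i := fun i => by
    rw [← congrFun he i]
    simp
  have hrow : ∀ j : Fin n, g.1 0 j.succ = 0 := by
    intro j
    have h := hg (Pi.single j.succ 1) (Pi.single 0 1)
    simp only [Units.coeHom_apply] at h
    rw [he, hermForm_single hq, hermForm_single hq] at h
    simpa [Fin.succ_ne_zero, (Fin.succ_ne_zero j).symm] using h
  ext i j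
  refine Fin.cases ?_ (fun i => ?_) i <;> refine Fin.cases ?_ (fun j => ?_) j <;>
    simp [blockM, hcol, hrow, Fin.succ_ne_zero]

variable [Fintype F]

theorem exists_witt {n : ℕ} (hF : Fintype.card F = q ^ 2) (v : Fin n → F) (i : Fin n)
    (hv : hermForm n F q v v = 1) : ∃ g ∈ GU n F q, g.1 *ᵥ Pi.single i 1 = v := by
  classical
  obtain ⟨σ, hσ, hinv, hq⟩ := FormsLib.exists_qhom hF
  obtain ⟨hU, -⟩ := FormsLib.hermB_isUnitary hF n hσ hinv hq
  set e : Fin n → F := Pi.single i 1 with he
  have he0 : e ≠ 0 := by simp [he]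
  let eX := LinearEquiv.toSpanNonzeroSingleton F (Fin n → F) e he0
  let φ : (Submodule.span F {e} : Submodule F (Fin n → F)) →ₗ[F] (Fin n → F) :=
    (LinearMap.toSpanSingleton F (Fin n → F) v).comp eX.symm.toLinearMap
  have hφ : ∀ c, φ (eX c) = c • v := fun c => by simp [φ]
  have hv0 : v ≠ 0 := by
    rintro rfl
    simp [hermForm] at hv
  have hee : hermForm n F q e e = 1 := by rw [he, hermForm_single (by omega)]; simp
  obtain ⟨g, hg, hgφ⟩ := hU.tf.witt _ φ (fun a b h => by
      obtain ⟨c, rfl⟩ := eX.surjective a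
      obtain ⟨d, rfl⟩ := eX.surjective b
      rw [hφ, hφ] at h
      rw [smul_left_injective F hv0 h]) (fun a b => by
      obtain ⟨c, rfl⟩ := eX.surjective a
      obtain ⟨d, rfl⟩ := eX.surjective b
      rw [hφ, hφ, show (eX c : Fin n → F) = c • e from rfl, show (eX d : Fin n → F) = d • e from rfl]
      simp only [LinearMap.map_smulₛₗ, LinearMap.smul_apply, RingHom.id_apply,
        FormsLib.hermB_apply hσ, hv, hee])
  refine ⟨Matrix.GeneralLinearGroup.toLin.symm (LinearMap.GeneralLinearGroup.ofLinearEquiv g),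
    fun x y => ?_, ?_⟩
  · show hermForm n F q (LinearMap.toMatrix' g.toLinearMap *ᵥ x)
      (LinearMap.toMatrix' g.toLinearMap *ᵥ y) = _
    rw [LinearMap.toMatrix'_mulVec, LinearMap.toMatrix'_mulVec, ← FormsLib.hermB_apply hσ,
      ← FormsLib.hermB_apply hσ]
    exact hg y x
  · show LinearMap.toMatrix' g.toLinearMap *ᵥ e = v
    rw [LinearMap.toMatrix'_mulVec]
    have h := hgφ (eX 1)
    rw [hφ, one_smul, show (eX 1 : Fin n → F) = (1 : F) • e from rfl, one_smul] at h
    exact h

theorem card_GU_succ (hF : Fintype.card F = q ^ 2) (n : ℕ) :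
    Nat.card (GU (n + 1) F q) =
      Nat.card {v : Fin (n + 1) → F // hermForm (n + 1) F q v v = 1} * Nat.card (GU n F q) := by
  classical
  have hq : q ≠ 0 := by
    have := FormCount.two_le_q hF
    omega
  set e : Fin (n + 1) → F := Pi.single 0 1
  have hee : hermForm (n + 1) F q e e = 1 := by simp [e, hermForm_single hq]
  let S := {v : Fin (n + 1) → F // hermForm (n + 1) F q v v = 1}
  let f : GU (n + 1) F q → S := fun g => ⟨g.1.1 *ᵥ e, (g.2 e e).trans hee⟩
  have hfib : ∀ v : S, Nat.card {g // f g = v} = Nat.card (GU n F q) := by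
    intro v
    obtain ⟨g₀, hg₀, hg₀e⟩ := exists_witt hF v.1 0 v.2
    refine (Nat.card_congr (Equiv.ofBijective (fun A => (⟨⟨g₀, hg₀⟩ * guSucc n A, Subtype.ext ?_⟩ :
      {g // f g = v})) ⟨fun A B h => ?_, fun g => ?_⟩)).symm
    · show (g₀.1 * blockM n A.1.1) *ᵥ e = v.1
      rw [← Matrix.mulVec_mulVec, blockM_mulVec]
      refine Eq.trans ?_ hg₀e
      congr 1
      have hzero : (fun i : Fin n => e i.succ) = 0 := by
        funext i; simp [e, Fin.succ_ne_zero]
      rw [hzero, Matrix.mulVec_zero]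
      funext i
      refine Fin.cases ?_ (fun i => ?_) i <;> simp [e, Fin.succ_ne_zero]
    · exact guSucc_injective n (mul_left_cancel (congrArg Subtype.val h))
    · obtain ⟨g, hg⟩ := g
      set h : GU (n + 1) F q := (⟨g₀, hg₀⟩ : GU (n + 1) F q)⁻¹ * g with hh
      have hge : g.1.1 *ᵥ e = g₀.1 *ᵥ e := (congrArg Subtype.val hg).trans hg₀e.symm
      have hfix : h.1.1 *ᵥ e = e := by
        show ((g₀⁻¹).1 * g.1.1) *ᵥ e = e
        rw [← Matrix.mulVec_mulVec, hge, Matrix.mulVec_mulVec, ← Units.val_mul, inv_mul_cancel,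
          Units.val_one, Matrix.one_mulVec]
      have hfix' : (h⁻¹).1.1 *ᵥ e = e := by
        conv_lhs => rw [← hfix]
        rw [Matrix.mulVec_mulVec, ← Units.val_mul, ← Subgroup.coe_mul, inv_mul_cancel]
        simp
      have hA := blockM_of_fix hq h.2 hfix
      have hA' := blockM_of_fix hq (h⁻¹).2 hfix'
      have hinj : Function.Injective (blockM (F := F) n) := fun A B hAB => Matrix.ext fun i j => by
        simpa [blockM] using congrFun (congrFun hAB i.succ) j.succ
      let A : GL (Fin n) F := ⟨h.1.1.submatrix Fin.succ Fin.succ,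
        (h⁻¹).1.1.submatrix Fin.succ Fin.succ,
        hinj (by rw [map_mul, map_one, ← hA, ← hA', ← Units.val_mul, ← Subgroup.coe_mul,
          mul_inv_cancel]; rfl),
        hinj (by rw [map_mul, map_one, ← hA, ← hA', ← Units.val_mul, ← Subgroup.coe_mul,
          inv_mul_cancel]; rfl)⟩
      have hAm : A ∈ GU n F q := by
        intro u w
        have := h.2 (Fin.cons 0 u) (Fin.cons 0 w)
        simp only [Units.coeHom_apply] at this
        rw [hA, blockM_mulVec, blockM_mulVec, hermForm_cons, hermForm_cons] at this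
        simpa [A] using this
      refine ⟨⟨A, hAm⟩, Subtype.ext ?_⟩
      show ⟨g₀, hg₀⟩ * guSucc n ⟨A, hAm⟩ = g
      have : guSucc n ⟨A, hAm⟩ = h := Subtype.ext (Units.ext hA.symm)
      rw [this, hh, mul_inv_cancel_left]
  haveI := Fintype.ofFinite S
  rw [← Nat.card_congr (Equiv.sigmaFiberEquiv f), Nat.card_sigma, Finset.sum_congr rfl (fun v _ => hfib v),
    Finset.sum_const, Finset.card_univ, smul_eq_mul, Nat.card_eq_fintype_card (α := GU n F q)]
  exact congrArg (· * _) Nat.card_eq_fintype_card.symm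

theorem card_norm_one_vec (hF : Fintype.card F = q ^ 2) (n : ℕ) :
    Nat.card {v : Fin (n + 1) → F // hermForm (n + 1) F q v v = 1} =
      q ^ n * (if Even n then q ^ (n + 1) + 1 else q ^ (n + 1) - 1) := by
  classical
  have h := FormCount.card_herm hF (n + 1) 1 (one_pow q)
  rw [if_neg one_ne_zero] at h
  have hq := FormCount.two_le_q hF
  refine Int.ofNat_inj.1 (mul_left_cancel₀ (show (q : ℤ) ≠ 0 by exact_mod_cast (by omega : q ≠ 0))
    (h.trans ?_))
  have h1 : 1 ≤ q ^ (n + 1) := Nat.one_le_pow _ _ (by omega)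
  split_ifs with he
  · rw [pow_succ (-1 : ℤ), he.neg_one_pow]
    push_cast; ring
  · rw [Int.natCast_mul, Nat.cast_sub h1, pow_succ (-1 : ℤ), (Nat.not_even_iff_odd.1 he).neg_one_pow]
    push_cast; ring

theorem card_GU (hF : Fintype.card F = q ^ 2) (n : ℕ) :
    Nat.card (GU n F q) =
      q ^ (n * (n - 1) / 2) * ∏ i ∈ Finset.range n, (if Even i then q ^ (i + 1) + 1 else q ^ (i + 1) - 1) := by
  induction n with
  | zero =>
    simp only [Nat.zero_mul, Nat.zero_div, pow_zero, Finset.range_zero, Finset.prod_empty, mul_one]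
    exact Nat.card_unique
  | succ n ih =>
    rw [card_GU_succ hF, card_norm_one_vec hF, ih, Finset.prod_range_succ, ← Finset.sum_range_id,
      ← Finset.sum_range_id, Finset.sum_range_succ, pow_add]
    ring

theorem det_norm_one {n : ℕ} (hF : Fintype.card F = q ^ 2) {g : GL (Fin n) F} (hg : g ∈ GU n F q) :
    g.1.det ^ (q + 1) = 1 := by
  obtain ⟨σ, hσ, -, hq⟩ := FormsLib.exists_qhom hF
  have h : g.1ᵀ * g.1.map σ = 1 := by
    ext i j
    have := hg (Pi.single i 1) (Pi.single j 1)
    simp only [Units.coeHom_apply] at this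
    rw [hermForm_single (by omega)] at this
    rw [Matrix.mul_apply, Matrix.one_apply]
    simpa [hermForm, hσ, Pi.single_apply, Matrix.mulVec_single, eq_comm] using this
  have h2 := congrArg Matrix.det h
  rw [Matrix.det_mul, Matrix.det_transpose, ← RingHom.mapMatrix_apply, ← RingHom.map_det,
    Matrix.det_one, hσ] at h2
  rw [pow_succ', h2]

theorem diagonal_mem {n : ℕ} (hF : Fintype.card F = q ^ 2) (d : Fin n → Fˣ)
    (hd : ∀ i, d i ^ (q + 1) = 1) :
    Units.map (Matrix.diagonalRingHom (Fin n) F).toMonoidHom (MulEquiv.piUnits.symm d) ∈ GU n F q := by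
  intro u v
  have hn : ∀ i, (d i : F) * (d i : F) ^ q = 1 := fun i => by
    have := congrArg Units.val (hd i)
    simpa [pow_succ'] using this
  simp only [hermForm, Units.coeHom_apply, Units.coe_map, MonoidHom.coe_coe,
    RingHom.toMonoidHom_eq_coe, Matrix.diagonalRingHom_apply, Matrix.mulVec_diagonal]
  refine Finset.sum_congr rfl fun i _ => ?_
  calc _ = (d i : F) * u i * ((d i : F) * v i) ^ q := rfl
    _ = u i * v i ^ q * ((d i : F) * (d i : F) ^ q) := by ring
    _ = _ := by rw [hn, mul_one]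

theorem card_norm_one_units (hF : Fintype.card F = q ^ 2) :
    Nat.card (powMonoidHom (q + 1) : Fˣ →* Fˣ).ker = q + 1 := by
  have hq := FormCount.two_le_q hF
  obtain ⟨k, hk⟩ : ∃ k, q = k + 1 := ⟨q - 1, by omega⟩
  have hcard : Nat.card Fˣ = (q + 1) * k := by
    rw [Nat.card_units, Nat.card_eq_fintype_card, hF, hk, Nat.sub_eq_iff_eq_add (by nlinarith)]
    ring
  rw [IsCyclic.card_powMonoidHom_ker, hcard, Nat.gcd_mul_right_left]

/-- `SU_n` as the kernel of the determinant on `GU_n`. -/
theorem card_SU (hF : Fintype.card F = q ^ 2) (n : ℕ) (hn : 1 ≤ n) :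
    (q + 1) * Nat.card (SU n F q) = Nat.card (GU n F q) := by
  classical
  let d : GU n F q →* Fˣ := Matrix.GeneralLinearGroup.det.comp (GU n F q).subtype
  have hrange : d.range = (powMonoidHom (q + 1) : Fˣ →* Fˣ).ker := by
    ext x
    constructor
    · rintro ⟨g, rfl⟩
      exact Units.ext (by simpa [d] using det_norm_one hF g.2)
    · intro hx
      have hd : ∀ i, Function.update (1 : Fin n → Fˣ) ⟨0, hn⟩ x i ^ (q + 1) = 1 := by
        intro i
        by_cases hi : i = ⟨0, hn⟩
        · rw [hi, Function.update_self]; exact hx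
        · simp [hi]
      refine ⟨⟨_, diagonal_mem hF _ hd⟩, Units.ext ?_⟩
      show (Matrix.diagonal (fun i => ((Function.update (1 : Fin n → Fˣ) ⟨0, hn⟩ x i : Fˣ) : F))).det = x
      rw [Matrix.det_diagonal, ← Units.coe_prod, Finset.prod_update_of_mem (Finset.mem_univ _)]
      simp
  have hker : Nat.card d.ker = Nat.card (SU n F q) := by
    refine (Nat.card_congr (Equiv.ofBijective (fun A : SU n F q =>
      (⟨⟨Matrix.SpecialLinearGroup.toGL A.1, A.2⟩, Units.ext A.1.2⟩ : d.ker)) ⟨fun A B h => ?_, fun g => ?_⟩)).symm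
    · exact Subtype.ext (Subtype.ext (congrArg (fun X : d.ker => X.1.1.1) h))
    · exact ⟨⟨⟨g.1.1.1, congrArg Units.val g.2⟩, g.1.2⟩, Subtype.ext (Subtype.ext (Units.ext rfl))⟩
  have h := Subgroup.card_eq_card_quotient_mul_card_subgroup d.ker
  rw [Nat.card_congr (QuotientGroup.quotientKerEquivRange d).toEquiv, hrange, card_norm_one_units hF,
    hker] at h
  exact h.symm

/-- The centre of `SU_n(q)` consists of scalars. -/
theorem card_center_SU (hF : Fintype.card F = q ^ 2) (n : ℕ) (hn : 2 ≤ n) :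
    Nat.card (Subgroup.center (SU n F q)) = Nat.gcd n (q + 1) := by
  classical
  have hq := FormCount.two_le_q hF
  -- an element of order `q + 1`
  obtain ⟨ζ, hζ⟩ := IsCyclic.exists_ofOrder_eq_natCard
    (α := (powMonoidHom (q + 1) : Fˣ →* Fˣ).ker)
  rw [card_norm_one_units hF] at hζ
  have hζ1 : ((ζ : Fˣ)) ^ (q + 1) = 1 := ζ.2
  have hζ2 : ((ζ : Fˣ) : F) - (((ζ : Fˣ)⁻¹ : Fˣ) : F) ≠ 0 := by
    intro h
    have h1 : (ζ : Fˣ) = (ζ : Fˣ)⁻¹ := Units.ext (sub_eq_zero.1 h)
    have h2 : orderOf ζ ∣ 2 := by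
      refine orderOf_dvd_of_pow_eq_one (Subtype.ext ?_)
      rw [Subgroup.coe_pow, pow_two, Subgroup.coe_one]
      nth_rewrite 2 [h1]
      exact mul_inv_cancel _
    rw [hζ] at h2
    have := Nat.le_of_dvd two_pos h2
    omega
  -- central elements are scalar
  have hoff : ∀ z ∈ Subgroup.center (SU n F q), ∀ a b : Fin n, a ≠ b → z.1.1 a b = 0 := by
    intro z hz a b hab
    · let d : Fin n → Fˣ := Function.update (Function.update 1 a (ζ : Fˣ)) b (ζ : Fˣ)⁻¹
      have hd : ∀ i, d i ^ (q + 1) = 1 := by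
        intro i
        simp only [d, Function.update_apply]
        split_ifs <;> simp [hζ1]
      have hdet : (Matrix.diagonal (fun i => (d i : F))).det = 1 := by
        rw [Matrix.det_diagonal, ← Units.coe_prod, Finset.prod_update_of_mem (Finset.mem_univ _),
          Finset.prod_update_of_mem (by simp [hab])]
        simp
      let D : SU n F q := ⟨⟨_, hdet⟩, diagonal_mem hF d hd⟩
      have h := congrArg (fun X : SU n F q => X.1.1 a b) (Subgroup.mem_center_iff.1 hz D)
      simp only [Subgroup.coe_mul, Matrix.SpecialLinearGroup.coe_mul] at h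
      change (Matrix.diagonal (fun i => (d i : F)) * z.1.1) a b =
        (z.1.1 * Matrix.diagonal (fun i => (d i : F))) a b at h
      rw [Matrix.diagonal_mul, Matrix.mul_diagonal] at h
      simp only [d, Function.update_self, Function.update_of_ne hab] at h
      have h0 : z.1.1 a b * (((ζ : Fˣ) : F) - (((ζ : Fˣ)⁻¹ : Fˣ) : F)) = 0 := by
        linear_combination h
      exact (mul_eq_zero.1 h0).resolve_right hζ2
  have hscalar : ∀ z ∈ Subgroup.center (SU n F q), ∀ a b : Fin n, a ≠ b →
      z.1.1 a b = 0 ∧ z.1.1 a a = z.1.1 b b := by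
    intro z hz a b hab
    refine ⟨hoff z hz a b hab, ?_⟩
    · let d : Fin n → Fˣ := Function.update 1 a (-1)
      let P : Matrix (Fin n) (Fin n) F :=
        Matrix.diagonal (fun i => (d i : F)) * (Equiv.swap a b).permMatrix F
      have hdet : P.det = 1 := by
        simp only [P, Matrix.det_mul, Matrix.det_diagonal, ← Units.coe_prod, d,
          Finset.prod_update_of_mem (Finset.mem_univ _), Matrix.det_permutation, Equiv.Perm.sign_swap hab]
        simp
      have hm1 : (-1 : F) * (-1 : F) ^ q = 1 := by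
        have h0 := FormCount.pow_q_add hF 1 (-1)
        rw [one_pow, add_neg_cancel, zero_pow (by omega)] at h0
        linear_combination h0
      have hmem : (⟨P, hdet⟩ : Matrix.SpecialLinearGroup (Fin n) F) ∈ SU n F q := by
        intro u v
        show hermForm n F q (P *ᵥ u) (P *ᵥ v) = _
        simp only [P, ← Matrix.mulVec_mulVec, hermForm, Matrix.mulVec_diagonal,
          Matrix.permMatrix_mulVec]
        refine (Fintype.sum_equiv (Equiv.swap a b) _ _ (fun i => ?_))
        by_cases hi : i = a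
        · subst hi
          simp only [d, Function.update_self, Function.comp_apply, Units.val_neg, Units.val_one]
          calc _ = u (Equiv.swap i b i) * v (Equiv.swap i b i) ^ q * ((-1) * (-1) ^ q) := by
                rw [mul_pow]; ring
            _ = _ := by rw [hm1, mul_one]
        · simp [d, Function.update_of_ne hi]
      have h := congrArg (fun X : SU n F q => X.1.1 a b)
        (Subgroup.mem_center_iff.1 hz ⟨⟨P, hdet⟩, hmem⟩)
      simp only [Subgroup.coe_mul, Matrix.SpecialLinearGroup.coe_mul] at h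
      change (P * z.1.1) a b = (z.1.1 * P) a b at h
      simp only [P] at h
      rw [Matrix.mul_assoc, Matrix.diagonal_mul, Matrix.mul_apply (M := z.1.1),
        Finset.sum_eq_single a (fun c _ hc => by rw [hoff z hz a c (Ne.symm hc), zero_mul]) (by simp),
        Matrix.diagonal_mul, Matrix.mul_apply, Finset.sum_eq_single b] at h
      · simp [Equiv.Perm.permMatrix, PEquiv.toMatrix_apply, d, Equiv.swap_apply_left] at h
        linear_combination -h
      · intro c _ hc
        simp [Equiv.Perm.permMatrix, PEquiv.toMatrix_apply, Equiv.swap_apply_left, Ne.symm hc]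
      · simp
  have hn0 : 0 < n := by omega
  let i0 : Fin n := ⟨0, hn0⟩
  haveI : Nonempty (Fin n) := ⟨i0⟩
  have hval : ∀ z ∈ Subgroup.center (SU n F q), z.1.1 = Matrix.scalar (Fin n) (z.1.1 i0 i0) := by
    intro z hz
    ext a b
    rcases eq_or_ne a b with rfl | hab
    · rcases eq_or_ne a i0 with rfl | h
      · simp
      · simp [(hscalar z hz a i0 h).2]
    · simp [hab, (hscalar z hz a b hab).1]
  let c : Subgroup.center (SU n F q) → (powMonoidHom (Nat.gcd n (q + 1)) : Fˣ →* Fˣ).ker := fun z =>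
    ⟨Units.mk0 (z.1.1.1 i0 i0) (fun h => by
      have := z.1.1.2
      rw [hval _ z.2, h] at this
      simp at this), by
      refine Units.ext ?_
      have hd := z.1.1.2
      rw [hval _ z.2, Matrix.scalar_apply, Matrix.det_diagonal, Finset.prod_const, Finset.card_univ,
        Fintype.card_fin] at hd
      have hN : hermForm n F q (z.1.1.1 *ᵥ Pi.single i0 1) (z.1.1.1 *ᵥ Pi.single i0 1) = 1 := by
        refine (z.1.2 (Pi.single i0 1) (Pi.single i0 1)).trans ?_
        rw [hermForm_single (by omega)]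
        simp
      set x := z.1.1.1 i0 i0
      have hN' : x ^ (q + 1) = 1 := by
        rw [hval _ z.2] at hN
        rw [show (Matrix.scalar (Fin n) x) *ᵥ Pi.single i0 (1 : F) = Pi.single i0 x by
          ext j; by_cases hj : j = i0 <;> simp [hj, Matrix.mulVec_single]] at hN
        simpa [hermForm, Pi.single_apply, ite_pow, zero_pow (show q ≠ 0 by omega), pow_succ'] using hN
      simpa using pow_gcd_eq_one.2 ⟨hd, hN'⟩⟩
  have hc : Function.Bijective c := by
    refine ⟨fun z w h => ?_, fun x => ?_⟩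
    · have h0 : z.1.1.1 i0 i0 = w.1.1.1 i0 i0 := congrArg (fun t : Fˣ => (t : F)) (congrArg Subtype.val h)
      exact Subtype.ext (Subtype.ext (Subtype.ext (by rw [hval _ z.2, hval _ w.2, h0])))
    · have hx : (x : Fˣ) ^ Nat.gcd n (q + 1) = 1 := x.2
      have hxn : (x : Fˣ) ^ n = 1 := orderOf_dvd_iff_pow_eq_one.1
        ((orderOf_dvd_of_pow_eq_one hx).trans (Nat.gcd_dvd_left n (q + 1)))
      have hxq : (x : Fˣ) ^ (q + 1) = 1 := orderOf_dvd_iff_pow_eq_one.1
        ((orderOf_dvd_of_pow_eq_one hx).trans (Nat.gcd_dvd_right n (q + 1)))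
      have hdet : (Matrix.diagonal (fun _ : Fin n => ((x : Fˣ) : F))).det = 1 := by
        rw [Matrix.det_diagonal, Finset.prod_const, Finset.card_univ, Fintype.card_fin,
          ← Units.val_pow_eq_pow_val, hxn, Units.val_one]
      let X : SU n F q := ⟨⟨_, hdet⟩, diagonal_mem hF (fun _ => (x : Fˣ)) (fun _ => hxq)⟩
      have hX : X ∈ Subgroup.center (SU n F q) := Subgroup.mem_center_iff.2 fun g =>
        Subtype.ext (Subtype.ext (Matrix.ext fun i j => by
          show (g.1.1 * Matrix.diagonal (fun _ : Fin n => ((x : Fˣ) : F))) i j =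
            (Matrix.diagonal (fun _ : Fin n => ((x : Fˣ) : F)) * g.1.1) i j
          rw [Matrix.mul_diagonal, Matrix.diagonal_mul, mul_comm]))
      exact ⟨⟨X, hX⟩, Subtype.ext (Units.ext (by simp [c, X]))⟩
  rw [Nat.card_congr (Equiv.ofBijective c hc), IsCyclic.card_powMonoidHom_ker, Nat.card_units,
    Nat.card_eq_fintype_card, hF]
  refine Nat.gcd_eq_right ((Nat.gcd_dvd_right n (q + 1)).trans ⟨q - 1, ?_⟩)
  rw [← Nat.sq_sub_sq, one_pow]

theorem card_PSU (hF : Fintype.card F = q ^ 2) (n : ℕ) (hn : 2 ≤ n) :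
    Nat.gcd n (q + 1) * ((q + 1) * Nat.card (PSU n F q)) = Nat.card (GU n F q) := by
  rw [← card_SU hF n (by omega), ← card_center_SU hF n hn,
    Subgroup.card_eq_card_quotient_mul_card_subgroup (Subgroup.center (SU n F q))]
  ring

end Cfsg.Agent.UnitaryOrder
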