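import Cfsg.Agent.Lib.Forms.Orth
import Cfsg.Agent.Lib.LinearGroups.FormCount
import Mathlib

/-!
Orders of the orthogonal groups over finite fields.
-/

set_option autoImplicit false

namespace Cfsg.Agent.OrthOrder

open FormsLib QuadraticMap

section Transfer

variable {F V V' : Type*} [Field F] [AddCommGroup V] [Module F V] [AddCommGroup V'] [Module F V']

theorem card_oGroup_congr {Q : QuadraticForm F V} {Q' : QuadraticForm F V'} (L : V ≃ₗ[F] V')
    (h : ∀ v, Q' (L v) = Q v) : Nat.card (oGroup Q) = Nat.card (oGroup Q') :=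
  Nat.card_congr
    { toFun := fun g => ⟨L.symm.trans (g.1.trans L), fun v => by
        show Q' (L (g.1 (L.symm v))) = Q' v
        rw [h, g.2, ← h, LinearEquiv.apply_symm_apply]⟩
      invFun := fun g => ⟨L.trans (g.1.trans L.symm), fun v => by
        show Q (L.symm (g.1 (L v))) = Q v
        rw [← h, LinearEquiv.apply_symm_apply, g.2, h]⟩
      left_inv := fun g => Subtype.ext (LinearEquiv.ext fun v => by simp)
      right_inv := fun g => Subtype.ext (LinearEquiv.ext fun v => by simp) }

theorem nondegenerate_iff {Q : QuadraticForm F V} :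
    (polarBilin Q).Nondegenerate ↔ ∀ x, (∀ y, polar Q x y = 0) → x = 0 := by
  refine ⟨fun h x hx => h.1 x hx, fun h => ⟨h, fun y hy => h y fun x => ?_⟩⟩
  rw [polar_comm]
  exact hy x

theorem nondegenerate_congr {Q : QuadraticForm F V} {Q' : QuadraticForm F V'} (L : V ≃ₗ[F] V')
    (h : ∀ v, Q' (L v) = Q v) (hQ : (polarBilin Q').Nondegenerate) :
    (polarBilin Q).Nondegenerate := by
  rw [nondegenerate_iff] at hQ ⊢
  intro x hx
  refine L.map_eq_zero_iff.1 (hQ (L x) fun y => ?_)
  obtain ⟨z, rfl⟩ := L.surjective y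
  rw [← hx z]
  simp only [polar, ← map_add, h]

end Transfer

section Step

variable {F W : Type*} [Field F] [AddCommGroup W] [Module F W] {Q' : QuadraticForm F W}

/-- The orthogonal sum of a hyperbolic plane and `Q'`. -/
noncomputable def withHyp (Q' : QuadraticForm F W) : QuadraticForm F ((F × F) × W) :=
  (linMulLin (LinearMap.fst F F F) (LinearMap.snd F F F)).prod Q'

theorem withHyp_apply (v : (F × F) × W) : withHyp Q' v = v.1.1 * v.1.2 + Q' v.2 := rfl

theorem polar_withHyp (u v : (F × F) × W) :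
    polar (withHyp Q') u v = u.1.1 * v.1.2 + u.1.2 * v.1.1 + polar Q' u.2 v.2 := by
  simp only [polar, withHyp_apply, Prod.fst_add, Prod.snd_add]
  ring

theorem polar_zero_left' (w : W) : polar Q' 0 w = 0 := by simp [polar, QuadraticMap.map_zero]

theorem polar_zero_right' (w : W) : polar Q' w 0 = 0 := by simp [polar, QuadraticMap.map_zero]

theorem withHyp_nondeg (h : (polarBilin Q').Nondegenerate) :
    (polarBilin (withHyp Q')).Nondegenerate := by
  rw [nondegenerate_iff] at h ⊢
  intro x hx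
  have h1 : x.1.2 = 0 := by simpa [polar_withHyp] using hx ((1, 0), 0)
  have h2 : x.1.1 = 0 := by simpa [polar_withHyp] using hx ((0, 1), 0)
  have h3 : x.2 = 0 := h _ fun w => by simpa [polar_withHyp] using hx (0, w)
  exact Prod.ext (Prod.ext h2 h1) h3

variable [FiniteDimensional F W]

/-- The orthogonal group is transitive on hyperbolic pairs. -/
theorem exists_to_pair (h : (polarBilin Q').Nondegenerate) (x y : (F × F) × W)
    (hx : withHyp Q' x = 0) (hy : withHyp Q' y = 0) (hxy : polar (withHyp Q') x y = 1) :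
    ∃ g : oGroup (withHyp Q'), g.1 ((1, 0), 0) = x ∧ g.1 ((0, 1), 0) = y := by
  let X : Submodule F ((F × F) × W) := LinearMap.range (LinearMap.inl F (F × F) W)
  let ψ : F × F →ₗ[F] (F × F) × W :=
    (LinearMap.toSpanSingleton F _ x).coprod (LinearMap.toSpanSingleton F _ y)
  have hψ : ∀ a b, ψ (a, b) = a • x + b • y := fun a b => by simp [ψ]
  let φ : X →ₗ[F] (F × F) × W := (ψ.comp (LinearMap.fst F (F × F) W)).domRestrict X
  have hφ : ∀ (p : F × F) (hp : (p, (0 : W)) ∈ X), φ ⟨_, hp⟩ = ψ p := fun p hp => rfl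
  have hxx : polar (withHyp Q') x x = 0 := by rw [polar_self', hx, mul_zero]
  have hyy : polar (withHyp Q') y y = 0 := by rw [polar_self', hy, mul_zero]
  obtain ⟨g, hg, hgφ⟩ := quad_witt (withHyp_nondeg h) X φ (by
      rw [← LinearMap.ker_eq_bot, LinearMap.ker_eq_bot']
      rintro ⟨_, ⟨⟨a, b⟩, rfl⟩⟩ hp
      have hp' : a • x + b • y = 0 := by rw [← hψ]; exact hp
      have ha := congrArg (fun z => polar (withHyp Q') z y) hp'
      have hb := congrArg (fun z => polar (withHyp Q') x z) hp'
      simp [polar_add_left, polar_add_right, polar_smul_left, polar_smul_right, hxy, hxx, hyy,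
        polar_zero_left, polar_zero_right] at ha hb
      exact Subtype.ext (by simp [ha, hb]))
    (by
      rintro ⟨_, ⟨⟨a, b⟩, rfl⟩⟩
      show withHyp Q' (ψ (a, b)) = withHyp Q' ((a, b), 0)
      rw [hψ, quad_add, QuadraticMap.map_smul, QuadraticMap.map_smul, hx, hy, polar_smul_left,
        polar_smul_right, hxy, withHyp_apply]
      simp)
  refine ⟨⟨g, hg⟩, ?_, ?_⟩
  · have := hgφ ⟨_, ⟨(1, 0), rfl⟩⟩
    refine this.trans ((hψ 1 0).trans (by simp))
  · have := hgφ ⟨_, ⟨(0, 1), rfl⟩⟩
    refine this.trans ((hψ 0 1).trans (by simp))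

/-- The isometries fixing a hyperbolic pair. -/
theorem card_stab (h : (polarBilin Q').Nondegenerate) :
    Nat.card {g : oGroup (withHyp Q') //
      g.1 ((1, 0), 0) = ((1, 0), 0) ∧ g.1 ((0, 1), 0) = ((0, 1), 0)} = Nat.card (oGroup Q') := by
  symm
  let Φ : oGroup Q' → {g : oGroup (withHyp Q') //
      g.1 ((1, 0), 0) = ((1, 0), 0) ∧ g.1 ((0, 1), 0) = ((0, 1), 0)} := fun k =>
    ⟨⟨(LinearEquiv.refl F (F × F)).prodCongr k.1, fun v => by
      simp only [withHyp_apply, LinearEquiv.prodCongr_apply, LinearEquiv.refl_apply]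
      rw [k.2]⟩, by simp, by simp⟩
  refine Nat.card_congr (Equiv.ofBijective Φ ⟨fun k k' hkk => ?_, fun g => ?_⟩)
  · refine Subtype.ext (LinearEquiv.ext fun w => ?_)
    simpa [Φ] using congrArg (fun z => z.1.1 (0, w)) hkk
  · obtain ⟨g, he, hf⟩ := g
    have h0 : ∀ w, (g.1 (0, w)).1 = 0 := fun w => by
      have h1 := polar_of_mem g.2 ((1, 0), 0) (0, w)
      have h2 := polar_of_mem g.2 ((0, 1), 0) (0, w)
      rw [he] at h1
      rw [hf] at h2
      simp [polar_withHyp, polar_zero_left'] at h1 h2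
      exact Prod.ext h2 h1
    let k : W →ₗ[F] W := (LinearMap.snd F (F × F) W).comp (g.1.toLinearMap.comp (LinearMap.inr F _ W))
    have hk : ∀ w, g.1 (0, w) = (0, k w) := fun w => Prod.ext (h0 w) rfl
    have hki : Function.Injective k := fun w w' hw => by
      have : g.1 (0, w) = g.1 (0, w') := by rw [hk, hk, hw]
      exact (Prod.ext_iff.1 (g.1.injective this)).2
    refine ⟨⟨LinearEquiv.ofInjectiveEndo k hki, fun w => ?_⟩, ?_⟩
    · have := g.2 (0, w)
      rw [hk, withHyp_apply, withHyp_apply] at this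
      simpa using this
    · refine Subtype.ext (Subtype.ext (LinearEquiv.ext fun v => ?_))
      obtain ⟨⟨a, b⟩, w⟩ := v
      have hv : (((a, b), w) : (F × F) × W) = a • ((1, 0), 0) + b • ((0, 1), 0) + (0, w) := by simp
      have hg : g.1 ((a, b), w) = ((a, b), k w) := by
        rw [hv]
        simp only [map_add, map_smul, he, hf, hk]
        simp
      exact Eq.trans (by simp [Φ]) hg.symm

theorem card_step [Fintype F] [Finite W] (h : (polarBilin Q').Nondegenerate) :
    Nat.card (oGroup (withHyp Q')) =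
      (Nat.card {v // withHyp Q' v = 0} - 1) * Nat.card W * Nat.card (oGroup Q') := by
  classical
  let G := oGroup (withHyp Q')
  let e : (F × F) × W := ((1, 0), 0)
  let f : (F × F) × W := ((0, 1), 0)
  let I := {x : (F × F) × W // withHyp Q' x = 0 ∧ x ≠ 0}
  let Pt : (F × F) × W → Type _ := fun x => {y // withHyp Q' y = 0 ∧ polar (withHyp Q') x y = 1}
  haveI : Finite G := Finite.of_injective (fun g : G => (g.1 : (F × F) × W → (F × F) × W))
    fun g g' hg => Subtype.ext (LinearEquiv.ext (congrFun hg))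
  haveI : Fintype I := Fintype.ofFinite _
  -- pairs
  let π : G → Σ x : I, Pt x.1 := fun g =>
    ⟨⟨g.1 e, by rw [g.2]; simp [withHyp_apply, e], fun h0 => by
      have := g.1.map_eq_zero_iff.1 h0
      simp [e] at this⟩, g.1 f, by rw [g.2]; simp [withHyp_apply, f], by
      rw [polar_of_mem g.2]; simp [polar_withHyp, e, f, polar_zero_left']⟩
  have hfib : ∀ p, Nat.card {g // π g = p} = Nat.card (oGroup Q') := by
    rintro ⟨⟨x, hx, hx0⟩, ⟨y, hy, hxy⟩⟩
    obtain ⟨g₀, hge, hgf⟩ := exists_to_pair h x y hx hy hxy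
    rw [← card_stab h]
    refine Nat.card_congr (Equiv.subtypeEquiv (Equiv.mulLeft g₀⁻¹) fun g => ?_)
    constructor
    · intro hg
      have h1 : g.1 e = x := congrArg (fun z => z.1.1) hg
      have h2 : g.1 f = y := congrArg (fun z => z.2.1) hg
      exact ⟨g₀.1.symm_apply_eq.2 (h1.trans hge.symm), g₀.1.symm_apply_eq.2 (h2.trans hgf.symm)⟩
    · rintro ⟨h1, h2⟩
      have h1' : g.1 e = x := (g₀.1.symm_apply_eq.1 h1).trans hge
      have h2' : g.1 f = y := (g₀.1.symm_apply_eq.1 h2).trans hgf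
      refine Sigma.subtype_ext (Subtype.ext h1') h2'
  have hpt : ∀ x : I, Nat.card (Pt x.1) = Nat.card W := by
    rintro ⟨x, hx, hx0⟩
    obtain ⟨z, hz⟩ : ∃ z, polar (withHyp Q') x z ≠ 0 := by
      by_contra hc
      push_neg at hc
      exact hx0 (nondegenerate_iff.1 (withHyp_nondeg h) x hc)
    set z' := (polar (withHyp Q') x z)⁻¹ • z with hz'
    have hz1 : polar (withHyp Q') x z' = 1 := by
      rw [hz', polar_smul_right, smul_eq_mul, inv_mul_cancel₀ hz]
    have hxx : polar (withHyp Q') x x = 0 := by rw [polar_self', hx, mul_zero]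
    clear_value z'
    obtain ⟨g, hge, -⟩ := exists_to_pair h x (z' + (-withHyp Q' z') • x) hx (by
      rw [quad_add, QuadraticMap.map_smul, hx, polar_smul_right, polar_comm, hz1]
      simp) (by rw [polar_add_right, polar_smul_right, hxx, hz1]; simp)
    refine Eq.trans (Nat.card_congr (β := Pt e)
      ((Equiv.subtypeEquiv g.1.toEquiv fun y => ?_).symm)) ?_
    · show _ ↔ withHyp Q' (g.1 y) = 0 ∧ polar (withHyp Q') x (g.1 y) = 1
      rw [g.2, ← hge, polar_of_mem g.2]
    · exact Nat.card_congr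
        { toFun := fun y => y.1.2
          invFun := fun w => ⟨((-Q' w, 1), w), by simp [withHyp_apply],
            by simp [polar_withHyp, e, polar_zero_left']⟩
          left_inv := fun y => by
            obtain ⟨⟨⟨a, b⟩, w⟩, h1, h2⟩ := y
            have hb : b = 1 := by simpa [polar_withHyp, e, polar_zero_left'] using h2
            subst hb
            simp [withHyp_apply] at h1
            refine Subtype.ext (Prod.ext (Prod.ext ?_ rfl) rfl)
            exact (eq_neg_of_add_eq_zero_left h1).symm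
          right_inv := fun _ => rfl }
  have hI : Nat.card I = Nat.card {v // withHyp Q' v = 0} - 1 := by
    have h0 : withHyp Q' 0 = 0 := QuadraticMap.map_zero _
    haveI : Fintype {v // withHyp Q' v = 0} := Fintype.ofFinite _
    rw [Nat.card_eq_fintype_card (α := {v // withHyp Q' v = 0}), ← Nat.card_congr
      (Equiv.subtypeSubtypeEquivSubtypeInter (fun v => withHyp Q' v = 0) fun v => v ≠ 0),
      Nat.card_congr (Equiv.subtypeEquivRight (q := fun v : {v // withHyp Q' v = 0} => ¬ v = ⟨0, h0⟩)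
        fun v => by simp [Subtype.ext_iff]), Nat.card_eq_fintype_card, Fintype.card_subtype_compl,
      Fintype.card_subtype_eq]
  haveI : ∀ x : I, Finite (Pt x.1) := fun x => inferInstanceAs (Finite {y // _})
  haveI : Fintype (Σ x : I, Pt x.1) := Fintype.ofFinite _
  rw [← Nat.card_congr (Equiv.sigmaFiberEquiv π), Nat.card_sigma,
    Finset.sum_congr rfl (fun p _ => hfib p), Finset.sum_const, Finset.card_univ,
    ← Nat.card_eq_fintype_card, Nat.card_sigma, Finset.sum_congr rfl (fun x _ => hpt x),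
    Finset.sum_const, Finset.card_univ, ← Nat.card_eq_fintype_card, hI, smul_eq_mul, smul_eq_mul]

end Step

section Series

variable {F T : Type*} [Field F] [AddCommGroup T] [Module F T]

/-- The hyperbolic form on `2m` coordinates. -/
noncomputable def qPlus (m : ℕ) (F : Type*) [Field F] : QuadraticForm F (Fin m ⊕ Fin m → F) :=
  ∑ i, linMulLin (LinearMap.proj (Sum.inl i)) (LinearMap.proj (Sum.inr i))

theorem qPlus_apply (m : ℕ) (v : Fin m ⊕ Fin m → F) : qPlus m F v = Cfsg.quadFormPlus m F v := by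
  simp [qPlus, Cfsg.quadFormPlus]

/-- `qPlus m` plus a form `Q₀`. -/
noncomputable def qSum (m : ℕ) (Q₀ : QuadraticForm F T) :
    QuadraticForm F ((Fin m ⊕ Fin m → F) × T) :=
  (qPlus m F).prod Q₀

theorem qSum_apply (m : ℕ) (Q₀ : QuadraticForm F T) (v : (Fin m ⊕ Fin m → F) × T) :
    qSum m Q₀ v = Cfsg.quadFormPlus m F v.1 + Q₀ v.2 := by
  simp [qSum, qPlus_apply]

/-- Splitting off the first hyperbolic pair. -/
noncomputable def splitHyp (m : ℕ) (F T : Type*) [Field F] [AddCommGroup T] [Module F T] :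
    ((Fin (m + 1) ⊕ Fin (m + 1) → F) × T) ≃ₗ[F] (F × F) × ((Fin m ⊕ Fin m → F) × T) :=
  let L : (Fin (m + 1) ⊕ Fin (m + 1) → F) ≃ₗ[F] (F × F) × (Fin m ⊕ Fin m → F) :=
    { FormCount.plusEquiv m F with
      map_add' := fun u v => by
        refine Prod.ext rfl (funext fun i => ?_)
        rcases i with i | i <;> rfl
      map_smul' := fun c v => by
        refine Prod.ext rfl (funext fun i => ?_)
        rcases i with i | i <;> rfl }
  (L.prodCongr (LinearEquiv.refl F T)).trans (LinearEquiv.prodAssoc F _ _ _)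

theorem withHyp_splitHyp (m : ℕ) (Q₀ : QuadraticForm F T) (v : (Fin (m + 1) ⊕ Fin (m + 1) → F) × T) :
    withHyp (qSum m Q₀) (splitHyp m F T v) = qSum (m + 1) Q₀ v := by
  obtain ⟨v, t⟩ := v
  have hv : splitHyp m F T (v, t) =
      ((FormCount.plusEquiv m F v).1, (FormCount.plusEquiv m F v).2, t) := rfl
  rw [hv, withHyp_apply, qSum_apply, qSum_apply, ← add_assoc]
  simp [Cfsg.quadFormPlus, FormCount.plusEquiv, Fin.sum_univ_succ]

/-- Forgetting the empty hyperbolic part. -/
noncomputable def zeroHyp (F T : Type*) [Field F] [AddCommGroup T] [Module F T] :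
    ((Fin 0 ⊕ Fin 0 → F) × T) ≃ₗ[F] T where
  toFun := Prod.snd
  map_add' _ _ := rfl
  map_smul' _ _ := rfl
  invFun t := (0, t)
  left_inv v := Prod.ext (Subsingleton.elim _ _) rfl
  right_inv _ := rfl

theorem zeroHyp_apply (Q₀ : QuadraticForm F T) (v : (Fin 0 ⊕ Fin 0 → F) × T) :
    Q₀ (zeroHyp F T v) = qSum 0 Q₀ v := by
  simp [qSum_apply, zeroHyp, Cfsg.quadFormPlus]

theorem qSum_nondeg {Q₀ : QuadraticForm F T} (h : (polarBilin Q₀).Nondegenerate) :
    ∀ m, (polarBilin (qSum m Q₀)).Nondegenerate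
  | 0 => nondegenerate_congr (zeroHyp F T) (zeroHyp_apply Q₀) h
  | m + 1 => nondegenerate_congr (splitHyp m F T) (withHyp_splitHyp m Q₀)
      (withHyp_nondeg (qSum_nondeg h m))

theorem card_qSum_zero (Q₀ : QuadraticForm F T) :
    Nat.card (oGroup (qSum 0 Q₀)) = Nat.card (oGroup Q₀) :=
  card_oGroup_congr (zeroHyp F T) (zeroHyp_apply Q₀)

variable [Fintype F] [Finite T]

theorem card_qSum_succ {Q₀ : QuadraticForm F T} (h : (polarBilin Q₀).Nondegenerate) (m : ℕ) :
    Nat.card (oGroup (qSum (m + 1) Q₀)) = (Nat.card {v // qSum (m + 1) Q₀ v = 0} - 1) *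
      (Fintype.card F ^ (2 * m) * Nat.card T) * Nat.card (oGroup (qSum m Q₀)) := by
  haveI : FiniteDimensional F T := Module.Finite.of_finite
  rw [card_oGroup_congr (splitHyp m F T) (withHyp_splitHyp m Q₀), card_step (qSum_nondeg h m),
    Nat.card_congr (Equiv.subtypeEquiv (splitHyp m F T).toEquiv
      (q := fun w => withHyp (qSum m Q₀) w = 0) fun v => by
        rw [LinearEquiv.coe_toEquiv, withHyp_splitHyp]).symm, Nat.card_prod, Nat.card_fun,
    Nat.card_eq_fintype_card (α := F), Nat.card_eq_fintype_card (α := Fin m ⊕ Fin m),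
    Fintype.card_sum, Fintype.card_fin, two_mul]

end Series

/-- The matrix isometry group of a form that is linearly equivalent to `Q`. -/
theorem card_isometryGroup {F V : Type*} [Field F] [AddCommGroup V] [Module F V] {ι : Type}
    [Fintype ι] [DecidableEq ι] (f : (ι → F) → F) (Q : QuadraticForm F V) (L : (ι → F) ≃ₗ[F] V)
    (h : ∀ v, Q (L v) = f v) : Nat.card (Cfsg.isometryGroup F f) = Nat.card (oGroup Q) := by
  have hf : ⇑(Q.comp L.toLinearMap) = f := funext h
  rw [← hf, Nat.card_congr (oEquiv _).toEquiv]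
  exact card_oGroup_congr L fun v => rfl

theorem sq_pow_sub_one (q m : ℕ) : (q ^ m + 1) * (q ^ m - 1) = q ^ (2 * m) - 1 := by
  rw [← Nat.sq_sub_sq, one_pow, ← pow_mul, mul_comm m 2]

end Cfsg.Agent.OrthOrder
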