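import Cfsg.Agent.Lib.LinearGroups.OrthOrder
import Cfsg.Agent.S0288

/-!
Non-degeneracy of the standard hyperbolic and elliptic forms.
-/

set_option autoImplicit false

namespace Cfsg.Agent.OrthForms

open QuadraticMap FormsLib OrthOrder

variable {F : Type*} [Field F]

theorem qPlus_nondeg (m : ℕ) : (polarBilin (qPlus m F)).Nondegenerate := by
  refine nondegenerate_iff.2 fun x hx => funext fun i => ?_
  rcases i with i | i
  · have := hx (Pi.single (.inr i) 1)
    simp [polar, qPlus_apply, Cfsg.quadFormPlus, Pi.single_apply, mul_add, add_mul, Finset.sum_add_distrib] at this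
    simpa using this
  · have := hx (Pi.single (.inl i) 1)
    simp [polar, qPlus_apply, Cfsg.quadFormPlus, Pi.single_apply, mul_add, add_mul, Finset.sum_add_distrib] at this
    simpa using this

theorem exists_qMinus [Fintype F] (k : ℕ) (a b : F)
    (hab : ∀ z₁ z₂ : F, z₁ ^ 2 + a * z₁ * z₂ + b * z₂ ^ 2 = 0 → z₁ = 0 ∧ z₂ = 0) :
    ∃ Q : QuadraticForm F ((Fin k ⊕ Fin k) ⊕ Fin 2 → F),
      ⇑Q = Cfsg.quadFormMinus k F a b ∧ (polarBilin Q).Nondegenerate := by
  let L := LinearEquiv.sumArrowLequivProdArrow (Fin k ⊕ Fin k) (Fin 2) F F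
  refine ⟨(qSum k (S0288.binForm a b)).comp L.toLinearMap, funext fun v => ?_,
    nondegenerate_congr L (fun v => rfl) (qSum_nondeg (S0288.binForm_nondeg a b hab) k)⟩
  simp [L, qSum_apply, S0288.binForm_apply, Cfsg.quadFormMinus, Cfsg.quadFormPlus]

end Cfsg.Agent.OrthForms
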