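import Cfsg.Agent.Lib.TransvMax.QuadOmega

/-!
In dimension at least seven the derived orthogonal group is perfect and simple modulo its centre.
-/

set_option autoImplicit false

namespace Cfsg.Agent.OrthSimple

open scoped commutatorElement
open Cfsg.Agent Cfsg.Agent.TransvMax Cfsg.Agent.QMax

variable {ι : Type} [Fintype ι] [DecidableEq ι] {F : Type*} [Field F] [Finite F]
  {Q : QuadraticForm F (ι → F)} (S : QSetting Q)

include S

omit [Finite F] in
theorem siegel_self {u w : ι → F} (hu : Q u = 0) (hw : pB Q w u = 0) :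
    S.siegel u w hu hw u = u := by
  have huu : pB Q u u = 0 := by rw [S.pB_self, hu, mul_zero]
  rw [S.siegel_apply, siegelHom_apply, huu, S.pB_comm u w, hw]
  simp

omit [Finite F] in
theorem siegel_trivial {u w : ι → F} (hu : Q u = 0) (hw : pB Q w u = 0)
    (h : w ∈ Submodule.span F {u}) : S.siegel u w hu hw = 1 := by
  obtain ⟨c, rfl⟩ := Submodule.mem_span_singleton.1 h
  refine LinearEquiv.ext fun x => ?_
  rw [S.siegel_apply, siegelHom_apply, map_smul, S.quad_smul, hu]
  show _ = x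
  simp only [smul_eq_mul, mul_zero, zero_mul, zero_smul, sub_zero]
  module

/-- Two singular vectors have a singular companion orthogonal to neither. -/
theorem common_nonperp {x y : ι → F} (hx : x ≠ 0) (hy : y ≠ 0) :
    ∃ z, Q z = 0 ∧ pB Q z x ≠ 0 ∧ pB Q z y ≠ 0 := by
  have hd := S.dim
  by_cases h : y ∈ Submodule.span F {x}
  · obtain ⟨c, rfl⟩ := Submodule.mem_span_singleton.1 h
    obtain ⟨z, -, hz, hzv⟩ := S.topDec.exists_values_in (v := ![x]) (fun i => Submodule.mem_top)
      (by simp [linearIndependent_unique_iff, hx]) (by rw [S.finrank_top_eq]; omega) ![1] 0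
    have hzx : pB Q z x = 1 := hzv 0
    refine ⟨z, hz, by rw [hzx]; exact one_ne_zero, ?_⟩
    rw [map_smul, hzx, smul_eq_mul, mul_one]
    exact fun e => hy (by rw [e, zero_smul])
  · obtain ⟨z, -, hz, hzv⟩ := S.topDec.exists_values_in (v := ![y, x]) (fun i => Submodule.mem_top)
      (S.sing_indep_pair hx h) (by rw [S.finrank_top_eq]; omega) ![1, 1] 0
    exact ⟨z, hz, by rw [show pB Q z x = 1 from hzv 1]; exact one_ne_zero,
      by rw [show pB Q z y = 1 from hzv 0]; exact one_ne_zero⟩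

/-- A linear map fixing every singular line is a scalar. -/
theorem scalar_of_fix_singular (g : (ι → F) ≃ₗ[F] (ι → F))
    (h : ∀ x, x ≠ 0 → Q x = 0 → ∃ a : F, g x = a • x) : ∃ c : F, ∀ v, g v = c • v := by
  have hd := S.dim
  have perp : ∀ x y, x ≠ 0 → Q x = 0 → Q y = 0 → pB Q x y = 0 → y ∉ Submodule.span F {x} →
      ∀ a b : F, g x = a • x → g y = b • y → a = b := by
    intro x y hx hQx hQy hxy hli a b ha hb
    have hne : x + y ≠ 0 := fun e => hli (by
      rw [show y = -x from eq_neg_of_add_eq_zero_right e]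
      exact Submodule.neg_mem _ (Submodule.mem_span_singleton_self x))
    obtain ⟨c, hc⟩ := h (x + y) hne (by rw [S.quad_add, hQx, hQy, hxy, add_zero, add_zero])
    rw [map_add, ha, hb] at hc
    by_cases hbc : b = c
    · subst hbc
      have h1 : (a - b) • x = 0 := by linear_combination (norm := module) hc
      exact sub_eq_zero.1 ((smul_eq_zero.1 h1).resolve_right hx)
    · refine absurd ?_ hli
      rw [Submodule.mem_span_singleton]
      refine ⟨(b - c)⁻¹ * (c - a), ?_⟩
      have h1 : (b - c) • y = (c - a) • x := by linear_combination (norm := module) hc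
      rw [← smul_smul, ← h1, smul_smul, inv_mul_cancel₀ (sub_ne_zero.2 hbc), one_smul]
  have same : ∀ x y, x ≠ 0 → y ≠ 0 → Q x = 0 → Q y = 0 → ∀ a b : F,
      g x = a • x → g y = b • y → a = b := by
    intro x y hx hy hQx hQy a b ha hb
    obtain ⟨z, -, hQz, hzv, hzX⟩ := S.topDec.exists_norm_out (k := 2) ![x, y]
      (Submodule.span F (Set.range ![x, y])) (by rw [S.finrank_top_eq]; omega) (by
        have : Module.finrank F (Submodule.span F (Set.range ![x, y])) ≤ 2 :=
          (finrank_range_le_card ![x, y]).trans (by simp)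
        rw [S.finrank_top_eq]
        omega) 0
    have hsp : ∀ v ∈ ({x, y} : Set (ι → F)), z ∉ Submodule.span F {v} := by
      intro v hv hz
      refine hzX (Submodule.span_mono ?_ hz)
      rcases hv with rfl | rfl <;> simp
    have hz0 : z ≠ 0 := fun e => hzX (by rw [e]; exact zero_mem _)
    obtain ⟨d, hd'⟩ := h z hz0 hQz
    exact (perp x z hx hQx hQz (by rw [S.pB_comm]; exact hzv 0) (hsp x (Or.inl rfl)) a d ha hd').trans
      (perp y z hy hQy hQz (by rw [S.pB_comm]; exact hzv 1) (hsp y (Or.inr rfl)) b d hb hd').symm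
  obtain ⟨x₀, -, hQ0, -, hx0⟩ := S.topDec.exists_norm_out (k := 0) ![] ⊥
    (by rw [S.finrank_top_eq]; omega) (by rw [finrank_bot, S.finrank_top_eq]; omega) 0
  have hx₀ : x₀ ≠ 0 := fun e => hx0 (by rw [e]; exact zero_mem _)
  obtain ⟨c, hc⟩ := h x₀ hx₀ hQ0
  have hsing : ∀ x, Q x = 0 → g x = c • x := by
    intro x hx
    rcases eq_or_ne x 0 with rfl | hx0
    · rw [map_zero, smul_zero]
    obtain ⟨a, ha⟩ := h x hx0 hx
    rw [ha, same x₀ x hx₀ hx0 hQ0 hx c a hc ha]
  refine ⟨c, fun v => ?_⟩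
  rcases eq_or_ne v 0 with rfl | hv
  · rw [map_zero, smul_zero]
  obtain ⟨u, -, hQu, huv⟩ := S.topDec.exists_values_in (v := ![v]) (fun i => Submodule.mem_top)
    (by simp [linearIndependent_unique_iff, hv]) (by rw [S.finrank_top_eq]; omega) ![1] 0
  have hvu : pB Q v u = 1 := by rw [S.pB_comm]; exact huv 0
  have hw : Q (v - Q v • u) = 0 := by
    rw [sub_eq_add_neg, ← neg_smul, S.quad_add, S.quad_smul, hQu, map_smul, hvu, smul_eq_mul]
    ring
  have h1 := hsing _ hw
  rw [map_sub, map_smul, hsing u hQu, smul_sub, smul_comm c (Q v) u] at h1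
  exact sub_left_inj.1 h1

/-- The derived group as a subgroup of linear automorphisms. -/
abbrev Om : Subgroup ((ι → F) ≃ₗ[F] (ι → F)) := ⁅FormsLib.oGroup Q, FormsLib.oGroup Q⁆

omit S [Finite F] in
theorem mem_oGroup_of_mem_Om {g : (ι → F) ≃ₗ[F] (ι → F)} (hg : g ∈ Om (Q := Q)) :
    g ∈ FormsLib.oGroup Q := Subgroup.commutator_le_self _ hg

/-- A Siegel transformation inside the derived group. -/
noncomputable def sg (u w : ι → F) (hu : Q u = 0) (hw : pB Q w u = 0) : Om (Q := Q) :=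
  ⟨S.siegel u w hu hw, siegel_mem_commutator S hu hw⟩

theorem closure_sg :
    Subgroup.closure {g : Om (Q := Q) | ∃ u w, ∃ (hu : Q u = 0) (hw : pB Q w u = 0),
      u ≠ 0 ∧ g = sg S u w hu hw} = ⊤ := by
  rw [eq_top_iff]
  intro g _
  have hm := commutator_le_siegelGroup S g.2
  have h2 : (g : (ι → F) ≃ₗ[F] (ι → F)) ∈ (Subgroup.closure {g : Om (Q := Q) | ∃ u w,
      ∃ (hu : Q u = 0) (hw : pB Q w u = 0), u ≠ 0 ∧ g = sg S u w hu hw}).map (Om (Q := Q)).subtype := by
    refine (Subgroup.closure_le _).2 ?_ hm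
    rintro _ ⟨u, w, hu, hw, rfl⟩
    rcases eq_or_ne u 0 with rfl | hu0
    · have h1 : S.siegel 0 w hu hw = 1 := LinearEquiv.ext fun x => by
        rw [S.siegel_apply, siegelHom_apply]; simp
      rw [h1]
      exact one_mem _
    · exact ⟨sg S u w hu hw, Subgroup.subset_closure ⟨u, w, hu, hw, hu0, rfl⟩, rfl⟩
  obtain ⟨g', hg', he⟩ := h2
  rwa [← Subtype.ext he]

/-- The derived group is transitive on vectors of equal norm. -/
theorem exists_map {x y : ι → F} (hx : x ≠ 0) (hy : y ≠ 0) (h : Q x = Q y) :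
    ∃ g : Om (Q := Q), g.1 x = y := by
  obtain ⟨g, hg, he⟩ := exists_siegelGroup_map S hx hy h
  refine ⟨⟨g, ?_⟩, he⟩
  refine (Subgroup.closure_le _).2 ?_ hg
  rintro _ ⟨u, w, hu, hw, rfl⟩
  exact siegel_mem_commutator S hu hw

/-- The derived group is perfect. -/
theorem commutator_Om : commutator (Om (Q := Q)) = ⊤ := by
  have hd := S.dim
  rw [eq_top_iff, ← closure_sg S, Subgroup.closure_le]
  rintro _ ⟨u, z, hu, hz, hu0, rfl⟩
  by_cases hzu : z ∈ Submodule.span F {u}
  · rw [show sg S u z hu hz = 1 from Subtype.ext (siegel_trivial S hu hz hzu)]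
    exact one_mem _
  obtain ⟨v, -, hv, hvv, hvX⟩ := S.topDec.exists_norm_out (k := 2) ![u, z]
    (Submodule.span F (Set.range ![z, u])) (by rw [S.finrank_top_eq]; omega) (by
      have : Module.finrank F (Submodule.span F (Set.range ![z, u])) ≤ 2 :=
        (finrank_range_le_card ![z, u]).trans (by simp)
      rw [S.finrank_top_eq]
      omega) 0
  have hvu : pB Q v u = 0 := hvv 0
  have hvz : pB Q v z = 0 := hvv 1
  obtain ⟨z', hz'⟩ := S.exists_values (v := ![v, z, u]) (linearIndependent_finCons.2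
    ⟨S.sing_indep_pair hu0 hzu, by simpa using hvX⟩) ![1, -Q z, 0]
  have hz'v : pB Q z' v = 1 := hz' 0
  have hz'z : pB Q z' z = -Q z := hz' 1
  have hz'u : pB Q z' u = 0 := hz' 2
  have hzv : pB Q z v = 0 := by rw [S.pB_comm, hvz]
  have hnorm : Q z' = Q (z' + z) := by rw [S.quad_add, hz'z]; ring
  have hwv : pB Q (z' + z - z') v = 0 := by rw [add_sub_cancel_left, hzv]
  have e1 : S.siegel v (z' + z - z') hv hwv z' = z' + z := S.siegel_map hv hz'v hnorm hwv
  have e2 : S.siegel v (z' + z - z') hv hwv u = u := by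
    rw [S.siegel_apply, siegelHom_apply, S.pB_comm u v, hvu, add_sub_cancel_left, S.pB_comm u z, hz]
    simp
  have hzz : pB Q (z' + z) u = 0 := by rw [map_add, LinearMap.add_apply, hz'u, hz, add_zero]
  have key : sg S u z hu hz = ⁅sg S v (z' + z - z') hv hwv, sg S u z' hu hz'u⁆ := by
    refine Subtype.ext ?_
    show S.siegel u z hu hz = S.siegel v (z' + z - z') hv hwv * S.siegel u z' hu hz'u *
      (S.siegel v (z' + z - z') hv hwv)⁻¹ * (S.siegel u z' hu hz'u)⁻¹
    rw [S.siegel_conj (S.siegel_mem_oGroup hv hwv), S.siegel_inv hu hz'u,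
      S.siegel_congr e2 e1 (hu' := hu) (hw' := hzz), S.siegel_mul]
    exact S.siegel_congr rfl (by abel)
  rw [key]
  exact Subgroup.commutator_mem_commutator (Subgroup.mem_top _) (Subgroup.mem_top _)

omit [Finite F] in
theorem mem_center_of_scalar {g : Om (Q := Q)} {c : F} (h : ∀ v, g.1 v = c • v) :
    g ∈ Subgroup.center (Om (Q := Q)) :=
  Subgroup.mem_center_iff.2 fun x => Subtype.ext (LinearEquiv.ext fun v => by
    show x.1 (g.1 v) = g.1 (x.1 v)
    rw [h, h, map_smul])

/-- A non-central normal subgroup moves a singular vector to a non-orthogonal one. -/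
theorem exists_nonperp_move {K : Subgroup (Om (Q := Q))} [K.Normal]
    (hK : ¬ K ≤ Subgroup.center (Om (Q := Q))) :
    ∃ x, Q x = 0 ∧ ∃ k ∈ K, pB Q x ((k : Om (Q := Q)).1 x) ≠ 0 := by
  have hd := S.dim
  obtain ⟨k, hk, hkc⟩ := SetLike.not_le_iff_exists.1 hK
  obtain ⟨x, hx, hQx, hkx⟩ : ∃ x, x ≠ 0 ∧ Q x = 0 ∧ ∀ a : F, k.1 x ≠ a • x := by
    by_contra hc
    push Not at hc
    obtain ⟨c, hc'⟩ := scalar_of_fix_singular S k.1 hc
    exact hkc (mem_center_of_scalar S hc')
  by_cases h0 : pB Q x (k.1 x) = 0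
  swap
  · exact ⟨x, hQx, k, hk, h0⟩
  have hQk : Q (k.1 x) = 0 := by rw [mem_oGroup_of_mem_Om k.2 x, hQx]
  have hli : x ∉ Submodule.span F {k.1 x} := fun h => by
    obtain ⟨c, hc⟩ := Submodule.mem_span_singleton.1 h
    have hc0 : c ≠ 0 := fun e => hx (by rw [← hc, e, zero_smul])
    exact hkx c⁻¹ (by conv_rhs => rw [← hc, smul_smul, inv_mul_cancel₀ hc0, one_smul])
  have hkx0 : k.1 x ≠ 0 := fun e => hx (k.1.map_eq_zero_iff.1 e)
  obtain ⟨w, -, hwv, hQw⟩ := S.topDec.exists_aniso (k := 2) ![x, k.1 x]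
    (by rw [S.finrank_top_eq]; omega)
  have hwx : pB Q w x = 0 := hwv 0
  have hwk : pB Q w (k.1 x) = 0 := hwv 1
  obtain ⟨y, -, hQy, hyv⟩ := S.topDec.exists_values_in (v := ![x, k.1 x]) (fun i => Submodule.mem_top)
    (S.sing_indep_pair hkx0 hli) (by rw [S.finrank_top_eq]; omega) ![1, 0] 0
  have hyx : pB Q y x = 1 := hyv 0
  have hyk : pB Q y (k.1 x) = 0 := hyv 1
  let s := sg S x w hQx hwx
  refine ⟨y, hQy, s * (k * s⁻¹ * k⁻¹), ?_, ?_⟩
  · have h1 : s * (k * s⁻¹ * k⁻¹) = s * k * s⁻¹ * k⁻¹ := by group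
    rw [h1]
    exact mul_mem (Subgroup.Normal.conj_mem inferInstance k hk _) (inv_mem hk)
  · have hinv : pB Q (-w) x = 0 := by rw [map_neg, LinearMap.neg_apply, hwx, neg_zero]
    have hfix : (k * s⁻¹ * k⁻¹ : Om (Q := Q)).1 y = y + pB Q y (k.1 w) • k.1 x := by
      show (k.1 * (S.siegel x w hQx hwx)⁻¹ * k.1⁻¹) y = _
      rw [S.siegel_inv, S.siegel_conj (mem_oGroup_of_mem_Om k.2), S.siegel_apply, siegelHom_apply,
        hyk, map_neg k.1, map_neg]
      module
    show pB Q y (S.siegel x w hQx hwx ((k * s⁻¹ * k⁻¹ : Om (Q := Q)).1 y)) ≠ 0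
    rw [hfix, map_add, map_smul, S.siegel_apply, S.siegel_apply, siegelHom_apply, siegelHom_apply,
      S.pB_comm (k.1 x) x, h0, S.pB_comm (k.1 x) w, hwk]
    simp only [map_add, map_sub, map_smul, smul_eq_mul, hyx, hyk, S.pB_self y, hQy]
    intro e
    exact hQw (by linear_combination -e)

/-- A non-central normal subgroup is transitive on singular points. -/
theorem exists_mem_map_line {K : Subgroup (Om (Q := Q))} [K.Normal]
    (hK : ¬ K ≤ Subgroup.center (Om (Q := Q))) {x y : ι → F} (hx : x ≠ 0) (hy : y ≠ 0)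
    (hQx : Q x = 0) (hQy : Q y = 0) :
    ∃ k ∈ K, ∃ c : F, c ≠ 0 ∧ (k : Om (Q := Q)).1 x = c • y := by
  obtain ⟨x₀, hQ₀, k₀, hk₀, hmove⟩ := exists_nonperp_move S hK
  have hx₀ : x₀ ≠ 0 := fun h => hmove (by rw [h, map_zero, LinearMap.zero_apply])
  have step : ∀ z w, Q z = 0 → Q w = 0 → pB Q w z ≠ 0 →
      ∃ k ∈ K, ∃ c : F, c ≠ 0 ∧ (k : Om (Q := Q)).1 z = c • w := by
    intro z w hzz hww hwz
    have hz : z ≠ 0 := fun h => hwz (by rw [h, map_zero])
    obtain ⟨g, hg⟩ := exists_map S hx₀ hz (hQ₀.trans hzz.symm)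
    have hk₁ : g * k₀ * g⁻¹ ∈ K := Subgroup.Normal.conj_mem inferInstance _ hk₀ g
    set k₁ := g * k₀ * g⁻¹ with hk₁def
    have hv : k₁.1 z = g.1 (k₀.1 x₀) := by
      show g.1 (k₀.1 (g.1.symm z)) = _
      rw [← hg, LinearEquiv.symm_apply_apply]
    have hvz : pB Q (k₁.1 z) z ≠ 0 := by
      rw [hv]
      conv_lhs => rw [← hg]
      rw [S.pB_of_mem (mem_oGroup_of_mem_Om g.2), S.pB_comm]
      exact hmove
    set a := (pB Q (k₁.1 z) z)⁻¹ • k₁.1 z with ha
    set b := (pB Q w z)⁻¹ • w with hb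
    have haz : pB Q a z = 1 := by
      rw [ha, map_smul, LinearMap.smul_apply, smul_eq_mul, inv_mul_cancel₀ hvz]
    have hbz : pB Q b z = 1 := by
      rw [hb, map_smul, LinearMap.smul_apply, smul_eq_mul, inv_mul_cancel₀ hwz]
    have hQab : Q a = Q b := by
      rw [ha, hb, S.quad_smul, S.quad_smul, mem_oGroup_of_mem_Om k₁.2 z, hzz, hww, mul_zero,
        mul_zero]
    have hw' : pB Q (b - a) z = 0 := by rw [map_sub, LinearMap.sub_apply, haz, hbz, sub_self]
    set s := sg S z (b - a) hzz hw'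
    have hs : s.1 a = b := S.siegel_map hzz haz hQab hw'
    refine ⟨s * k₁ * s⁻¹, Subgroup.Normal.conj_mem inferInstance _ hk₁ s,
      pB Q (k₁.1 z) z * (pB Q w z)⁻¹, mul_ne_zero hvz (inv_ne_zero hwz), ?_⟩
    have hsz : s.1 z = z := siegel_self S hzz hw'
    show s.1 (k₁.1 (s.1.symm z)) = _
    rw [show s.1.symm z = z by conv_lhs => rw [← hsz]; rw [LinearEquiv.symm_apply_apply],
      ← smul_smul, ← hb, ← hs, ← map_smul, ha, smul_smul, mul_inv_cancel₀ hvz, one_smul]
  obtain ⟨z, hzz, hzx, hzy⟩ := common_nonperp S hx hy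
  obtain ⟨k₁, hk₁, c₁, hc₁, e₁⟩ := step x z hQx hzz hzx
  obtain ⟨k₂, hk₂, c₂, hc₂, e₂⟩ := step z y hzz hQy fun h => hzy (by rw [S.pB_comm]; exact h)
  refine ⟨k₂ * k₁, mul_mem hk₂ hk₁, c₁ * c₂, mul_ne_zero hc₁ hc₂, ?_⟩
  show k₂.1 (k₁.1 x) = _
  rw [e₁, map_smul, e₂, smul_smul]

/-- Non-central normal subgroups of the derived group are trivial. -/
theorem eq_top_of_normal {K : Subgroup (Om (Q := Q))} [K.Normal]
    (hK : ¬ K ≤ Subgroup.center (Om (Q := Q))) : K = ⊤ := by
  have hd := S.dim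
  obtain ⟨e, -, hQe, -, he0⟩ := S.topDec.exists_norm_out (k := 0) ![] ⊥
    (by rw [S.finrank_top_eq]; omega) (by rw [finrank_bot, S.finrank_top_eq]; omega) 0
  have he : e ≠ 0 := fun h => he0 (by rw [h]; exact zero_mem _)
  let π := QuotientGroup.mk' K
  let T : Set (Om (Q := Q) ⧸ K) := {z | ∃ w, ∃ (hw : pB Q w e = 0), z = π (sg S e w hQe hw)}
  have hgen : Subgroup.closure T = ⊤ := by
    rw [eq_top_iff, ← Subgroup.map_top_of_surjective π (QuotientGroup.mk'_surjective K),
      ← closure_sg S, MonoidHom.map_closure, Subgroup.closure_le]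
    rintro _ ⟨_, ⟨u, w, hu, hw, hu0, rfl⟩, rfl⟩
    obtain ⟨k, hk, c, hc, hku⟩ := exists_mem_map_line S hK hu0 he hu hQe
    have hko := mem_oGroup_of_mem_Om k.2
    have h1 : pB Q (k.1 w) e = 0 := by
      have h2 : pB Q (k.1 w) (k.1 u) = 0 := by rw [S.pB_of_mem hko, hw]
      rw [hku, map_smul, smul_eq_mul] at h2
      exact (mul_eq_zero.1 h2).resolve_left hc
    have h3 : pB Q (c • k.1 w) e = 0 := by rw [map_smul, LinearMap.smul_apply, h1, smul_zero]
    refine Subgroup.subset_closure ⟨c • k.1 w, h3, ?_⟩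
    have e1 : k * sg S u w hu hw * k⁻¹ = sg S e (c • k.1 w) hQe h3 := by
      refine Subtype.ext ?_
      show k.1 * S.siegel u w hu hw * k.1⁻¹ = S.siegel e (c • k.1 w) hQe h3
      rw [S.siegel_conj hko, S.siegel_congr hku rfl (hu' := by rw [S.quad_smul, hQe, mul_zero])
        (hw' := by rw [map_smul, h1, smul_zero]), S.siegel_smul]
    rw [← e1, map_mul, map_mul, map_inv, show π k = 1 from (QuotientGroup.eq_one_iff k).2 hk]
    simp
  have hcomm : ∀ a b : Om (Q := Q) ⧸ K, a * b = b * a := by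
    have hT : ∀ a ∈ T, ∀ b ∈ T, a * b = b * a := by
      rintro _ ⟨w, hw, rfl⟩ _ ⟨w', hw', rfl⟩
      rw [← map_mul, ← map_mul]
      refine congrArg π (Subtype.ext ?_)
      show S.siegel e w hQe hw * S.siegel e w' hQe hw' = S.siegel e w' hQe hw' * S.siegel e w hQe hw
      rw [S.siegel_mul, S.siegel_mul]
      exact S.siegel_congr rfl (add_comm _ _)
    haveI := Subgroup.isMulCommutative_closure hT
    intro a b
    exact congrArg Subtype.val (IsMulCommutative.is_comm.comm
      (⟨a, hgen ▸ Subgroup.mem_top a⟩ : Subgroup.closure T) ⟨b, hgen ▸ Subgroup.mem_top b⟩)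
  rw [eq_top_iff, ← commutator_Om S, _root_.commutator_def, Subgroup.commutator_le]
  intro a _ b _
  rw [← QuotientGroup.eq_one_iff, show (↑⁅a, b⁆ : Om (Q := Q) ⧸ K) = ⁅π a, π b⁆ from map_commutatorElement π a b,
    commutatorElement_eq_one_iff_mul_comm, hcomm]

/-- The derived orthogonal group is simple modulo its centre. -/
theorem isSimple_Om : IsSimpleGroup (Om (Q := Q) ⧸ Subgroup.center (Om (Q := Q))) := by
  have hd := S.dim
  have hnc : ¬ (⊤ : Subgroup (Om (Q := Q))) ≤ Subgroup.center (Om (Q := Q)) := by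
    intro h
    obtain ⟨u, -, hQu, -, hu0⟩ := S.topDec.exists_norm_out (k := 0) ![] ⊥
      (by rw [S.finrank_top_eq]; omega) (by rw [finrank_bot, S.finrank_top_eq]; omega) 0
    obtain ⟨w, -, hwu, hQw⟩ := S.topDec.exists_aniso (k := 1) ![u] (by rw [S.finrank_top_eq]; omega)
    have hw : pB Q w u = 0 := hwu 0
    have hu : u ≠ 0 := fun e => hu0 (by rw [e]; exact zero_mem _)
    obtain ⟨y, -, hQy, hyu⟩ := S.topDec.exists_values_in (v := ![u]) (fun i => Submodule.mem_top)
      (by simp [linearIndependent_unique_iff, hu]) (by rw [S.finrank_top_eq]; omega) ![1] 0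
    have hyu : pB Q y u = 1 := hyu 0
    have hy : y ≠ 0 := fun e => one_ne_zero (α := F) (by
      rw [← hyu, e, map_zero, LinearMap.zero_apply])
    obtain ⟨g, hg⟩ := exists_map S hu hy (hQu.trans hQy.symm)
    have h2 := Subgroup.mem_center_iff.1 (h (Subgroup.mem_top g)) (sg S u w hQu hw)
    have h3 := congrArg (fun z : Om (Q := Q) => z.1 u) h2
    simp only [Subgroup.coe_mul, LinearEquiv.mul_apply, hg] at h3
    rw [show (sg S u w hQu hw).1 u = u from siegel_self S hQu hw, hg] at h3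
    have h4 := congrArg (fun z => pB Q z y) h3
    simp only [sg, S.siegel_apply, siegelHom_apply, hyu, map_add, map_sub, map_smul, LinearMap.add_apply,
      LinearMap.sub_apply, LinearMap.smul_apply, smul_eq_mul, S.pB_comm u y, S.pB_comm w y, S.pB_self y,
      hQy] at h4
    exact hQw (by linear_combination -h4)
  haveI : Nontrivial (Om (Q := Q) ⧸ Subgroup.center (Om (Q := Q))) :=
    QuotientGroup.nontrivial_iff.2 fun e => hnc e.ge
  refine ⟨fun N hN => ?_⟩
  have hsurj := QuotientGroup.mk'_surjective (Subgroup.center (Om (Q := Q)))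
  by_cases hK : N.comap (QuotientGroup.mk' (Subgroup.center (Om (Q := Q)))) ≤ Subgroup.center (Om (Q := Q))
  · refine Or.inl ((Subgroup.eq_bot_iff_forall _).2 fun z hz => ?_)
    obtain ⟨s, rfl⟩ := hsurj z
    exact (QuotientGroup.eq_one_iff s).2 (hK hz)
  · refine Or.inr (Subgroup.comap_injective hsurj ?_)
    rw [eq_top_of_normal S hK, Subgroup.comap_top]

omit S [Finite F] in
/-- The matrix description of the derived group. -/
theorem exists_equiv_Omega :
    Nonempty (Cfsg.Omega F ⇑Q ≃* Om (Q := Q)) := by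
  let e := FormsLib.oEquiv Q
  let f : Cfsg.isometryGroup F ⇑Q →* ((ι → F) ≃ₗ[F] (ι → F)) :=
    (FormsLib.oGroup Q).subtype.comp e.toMonoidHom
  have hf : Function.Injective f := Subtype.val_injective.comp e.injective
  have hr : (⊤ : Subgroup (Cfsg.isometryGroup F ⇑Q)).map f = FormsLib.oGroup Q := by
    ext g
    exact ⟨fun ⟨x, _, hx⟩ => hx ▸ (e x).2, fun hg => ⟨e.symm ⟨g, hg⟩, Subgroup.mem_top _,
      congrArg Subtype.val (e.apply_symm_apply ⟨g, hg⟩)⟩⟩
  have h : (commutator (Cfsg.isometryGroup F ⇑Q)).map f = Om (Q := Q) := by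
    rw [_root_.commutator_def, Subgroup.map_commutator, hr]
  exact ⟨(Subgroup.equivMapOfInjective _ f hf).trans (MulEquiv.subgroupCongr h)⟩

/-- `PΩ` of a form in dimension at least seven is simple. -/
theorem isSimple_POmega {f : (ι → F) → F} (hf : ⇑Q = f) : IsSimpleGroup (Cfsg.POmega F f) := by
  subst hf
  obtain ⟨e⟩ := exists_equiv_Omega (Q := Q)
  haveI := isSimple_Om S
  let e' := QuotientGroup.congr (Subgroup.center (Cfsg.Omega F ⇑Q)) (Subgroup.center (Om (Q := Q))) e
    (by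
      refine le_antisymm ?_ fun z hz => ⟨e.symm z, Subgroup.mem_center_iff.2 fun x => ?_, e.apply_symm_apply z⟩
      · rintro _ ⟨z, hz, rfl⟩
        refine Subgroup.mem_center_iff.2 fun x => ?_
        obtain ⟨x, rfl⟩ := e.surjective x
        show e x * e z = e z * e x
        rw [← map_mul, ← map_mul, Subgroup.mem_center_iff.1 hz x]
      · apply e.injective
        rw [map_mul, map_mul, e.apply_symm_apply, Subgroup.mem_center_iff.1 hz (e x)])
  haveI : Nontrivial (Cfsg.POmega F ⇑Q) := e'.toEquiv.nontrivial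
  exact IsSimpleGroup.isSimpleGroup_of_surjective e'.symm.toMonoidHom e'.symm.surjective

end Cfsg.Agent.OrthSimple
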