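import Cfsg.Agent.Lib.LinearGroups.OrthSigns

/-!
The order of `PΩ` in dimension at least seven.
-/

set_option autoImplicit false

namespace Cfsg.Agent.OrthPOrder

open Cfsg.Agent Cfsg.Agent.TransvMax Cfsg.Agent.QMax Cfsg.Agent.OrthSimple

variable {ι : Type} [Fintype ι] [DecidableEq ι] {F : Type*} [Field F] [Fintype F]
  {Q : QuadraticForm F (ι → F)}

/-- Scalar minus one. -/
noncomputable def negOne (Q : QuadraticForm F (ι → F)) : FormsLib.oGroup Q :=
  ⟨LinearEquiv.neg F, fun v => by simp⟩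

theorem negOne_apply (v : ι → F) : (negOne Q).1 v = -v := by simp [negOne]

theorem det_negOne : (LinearEquiv.det (negOne Q).1 : Fˣ) = (-1) ^ Fintype.card ι := by
  apply Units.ext
  rw [LinearEquiv.coe_det, Units.val_pow_eq_pow_val, Units.val_neg, Units.val_one]
  have : ((negOne Q).1 : (ι → F) →ₗ[F] (ι → F)) = (-1 : F) • LinearMap.id :=
    LinearMap.ext fun v => by simp [negOne_apply]
  rw [this, LinearMap.det_smul, LinearMap.det_id, mul_one, Module.finrank_fintype_fun_eq_card]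

theorem eq_negOne {g : (ι → F) ≃ₗ[F] (ι → F)} (h : ∀ v, g v = -v) : g = (negOne Q).1 :=
  LinearEquiv.ext fun v => by rw [h, negOne_apply]

theorem gcd_four {X : ℕ} (hX : Even X) :
    (4 ∣ X → Nat.gcd 4 X = 4) ∧ (¬ 4 ∣ X → Nat.gcd 4 X = 2) := by
  refine ⟨fun h => Nat.gcd_eq_left h, fun h => ?_⟩
  rw [Nat.gcd_rec, show X % 4 = 2 by obtain ⟨k, rfl⟩ := hX; omega]
  rfl

/-- Even characteristic. -/
theorem card_two (S : QSetting Q) (h2 : (2 : F) = 0) {f : (ι → F) → F} (hf : ⇑Q = f) :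
    Nat.card (Cfsg.isometryGroup F f) = 2 * Nat.card (Cfsg.POmega F f) := by
  have h := OrthIndex.card_POmega_mul hf
  rw [OrthIndex.card_center_eq_one S fun z hz v => by
    rw [hz, neg_eq_iff_add_eq_zero, ← two_smul F, h2, zero_smul], mul_one] at h
  rw [h, ← OrthSigns.index_two S h2, ← hf]
  exact Nat.card_congr (FormsLib.oEquiv Q).toEquiv

/-- Odd characteristic, even dimension, with the form extended to an odd one. -/
theorem card_odd_char (S : QSetting Q) (h2 : (2 : F) ≠ 0) (heven : Even (Fintype.card ι))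
    {f : (ι → F) → F} (hf : ⇑Q = f) {m : ℕ} (hm : 3 ≤ m)
    (L : ((ι → F) × F) ≃ₗ[F] (OrthSigns.OddI m → F)) (c : F) (hc0 : c ≠ 0)
    (hL : ∀ v t, FormsLib.qOdd m F (L (v, t)) = Q v + c * (t * t)) {X : ℕ} (hX : Even X)
    (hchi : ∀ hc, OrthChar.chi (FormsLib.qOdd m F) (FormsLib.oRefl (FormsLib.qOdd m F) (L (0, 1)) hc) =
      (-1) ^ (X / 2)) :
    2 * (Nat.gcd 4 X * Nat.card (Cfsg.POmega F f)) = Nat.card (Cfsg.isometryGroup F f) := by
  have hc : FormsLib.qOdd m F (L (0, 1)) ≠ 0 := by rw [hL]; simpa using hc0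
  let χ := (OrthChar.chi (FormsLib.qOdd m F)).comp (OrthChar.extendHom L c hL)
  obtain ⟨p, p', hp, hp', -, hcov⟩ := exists_two_refl S
  have e : ∀ v, FormsLib.qOdd m F (L (v, 0)) = Q v := fun v => by rw [hL]; simp
  have hne : χ (FormsLib.oRefl Q p hp) ≠ χ (FormsLib.oRefl Q p' hp') := by
    obtain ⟨h1, e1⟩ := OrthChar.extendHom_refl L c hL hp
    obtain ⟨h1', e1'⟩ := OrthChar.extendHom_refl L c hL hp'
    show OrthChar.chi _ _ ≠ OrthChar.chi _ _
    rw [e1, e1']
    refine OrthSigns.chi_ne_of_cover h2 m hm h1 h1' ?_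
    rw [e, e]
    exact hcov
  obtain ⟨hO, hmem⟩ := OrthIndex.index_four S h2 χ hp hp' hcov hne
  have hneg : χ (negOne Q) = (-1) ^ (X / 2) := by
    show OrthChar.chi _ (OrthChar.extendHom L c hL (negOne Q)) = _
    rw [OrthChar.chi_extend_neg L c hL hc (negOne Q) negOne_apply, hchi hc]
  have h := OrthIndex.card_POmega_mul hf
  have hiso : Nat.card (Cfsg.isometryGroup F f) = Nat.card (FormsLib.oGroup Q) := by
    rw [← hf]; exact Nat.card_congr (FormsLib.oEquiv Q).toEquiv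
  rw [hiso, hO]
  have hdet : LinearEquiv.det (negOne Q).1 = 1 := by rw [det_negOne, heven.neg_one_pow]
  by_cases h4 : 4 ∣ X
  · have hin : (negOne Q).1 ∈ Om (Q := Q) := (hmem _).2 ⟨hdet, by
      rw [hneg]; exact Even.neg_one_pow (by obtain ⟨j, rfl⟩ := h4; exact ⟨j, by omega⟩)⟩
    rw [OrthIndex.card_center_eq_two S h2 ⟨(negOne Q).1, hin⟩ (fun v => negOne_apply (Q := Q) v)] at h
    rw [(gcd_four hX).1 h4]
    omega
  · rw [OrthIndex.card_center_eq_one S fun z hz v => by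
      exfalso
      have h1 := ((hmem (negOne Q)).1 (eq_negOne hz ▸ z.2)).2
      rw [hneg, Odd.neg_one_pow (by obtain ⟨j, rfl⟩ := hX; rw [Nat.odd_iff]; omega)] at h1
      exact absurd h1 (by decide), mul_one] at h
    rw [(gcd_four hX).2 h4]
    omega

/-- Odd dimension. -/
theorem card_odd_dim (h2 : (2 : F) ≠ 0) {m : ℕ} (hm : 3 ≤ m) :
    4 * Nat.card (Cfsg.POmega F (Cfsg.quadFormOdd m F)) =
      Nat.card (Cfsg.isometryGroup F (Cfsg.quadFormOdd m F)) := by
  have S := OrthSigns.qset_odd h2 m hm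
  obtain ⟨p, p', hp, hp', -, hcov⟩ := exists_two_refl S
  obtain ⟨hO, hmem⟩ := OrthIndex.index_four S h2 (OrthChar.chi (FormsLib.qOdd m F)) hp hp' hcov
    (OrthSigns.chi_ne_of_cover h2 m hm hp hp' hcov)
  have h := OrthIndex.card_POmega_mul (Q := FormsLib.qOdd m F) FormsLib.coe_qOdd
  rw [OrthIndex.card_center_eq_one S fun z hz v => by
    exfalso
    have h1 := ((hmem (negOne (FormsLib.qOdd m F))).1 (eq_negOne hz ▸ z.2)).1
    rw [det_negOne, Odd.neg_one_pow ⟨m, by simp [Fintype.card_sum]; omega⟩] at h1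
    have h3 : ((-1 : Fˣ) : F) = ((1 : Fˣ) : F) := congrArg Units.val h1
    rw [Units.val_neg, Units.val_one] at h3
    exact h2 (by linear_combination -h3), mul_one] at h
  rw [h, ← hO, ← FormsLib.coe_qOdd]
  exact (Nat.card_congr (FormsLib.oEquiv _).toEquiv).symm

theorem coprime_four_of_odd {X : ℕ} (h : Odd X) : Nat.gcd 4 X = 1 := by
  rw [Nat.gcd_rec]
  obtain ⟨j, rfl⟩ := h
  rcases (show (2 * j + 1) % 4 = 1 ∨ (2 * j + 1) % 4 = 3 by omega) with h | h <;> rw [h] <;> rfl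

end Cfsg.Agent.OrthPOrder
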