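import Cfsg.Agent.Lib.LinearGroups.OrthIndex
import Cfsg.Agent.Lib.LinearGroups.OrthForms
import Cfsg.Agent.Lib.LinearGroups.FormCount
import Cfsg.Agent.Lib.TransvMax.QuadSingular

/-!
Values of the sign character on reflections, and the parity character in characteristic two.
-/

set_option autoImplicit false

namespace Cfsg.Agent.OrthSigns

open Cfsg.Agent Cfsg.Agent.TransvMax Cfsg.Agent.QMax Cfsg.Agent.OrthSimple

variable {F : Type*} [Field F]

abbrev OddI (m : ℕ) := Unit ⊕ (Fin m ⊕ Fin m)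
abbrev MinI (k : ℕ) := (Fin k ⊕ Fin k) ⊕ Fin 2

/-- The even form as the orthogonal of `x₀`. -/
def plusL (m : ℕ) : ((Fin m ⊕ Fin m → F) × F) ≃ₗ[F] (OddI m → F) where
  toFun p := Sum.elim (fun _ => p.2) p.1
  invFun v := (fun i => v (.inr i), v (.inl ()))
  map_add' p p' := by funext i; rcases i with i | i <;> rfl
  map_smul' c p := by funext i; rcases i with i | i <;> rfl
  left_inv p := rfl
  right_inv v := by funext i; rcases i with i | i <;> rfl

theorem plusL_apply (m : ℕ) (v : Fin m ⊕ Fin m → F) (t : F) :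
    plusL m (v, t) = Sum.elim (fun _ => t) v := rfl

theorem plusL_spec (m : ℕ) (v : Fin m ⊕ Fin m → F) (t : F) :
    FormsLib.qOdd m F (plusL m (v, t)) = OrthOrder.qPlus m F v + 1 * (t * t) := by
  rw [FormsLib.qOdd_apply, OrthOrder.qPlus_apply]
  simp [plusL_apply, Cfsg.quadFormPlus, add_comm]

theorem exists_minusL [Fintype F] (h2 : (2 : F) ≠ 0) (k : ℕ) (a b ν : F) (hν : ν = (a / 2) ^ 2 - b)
    (hν0 : ν ≠ 0) : ∃ L : ((MinI k → F) × F) ≃ₗ[F] (OddI (k + 1) → F),
      ∀ v t, FormsLib.qOdd (k + 1) F (L (v, t)) = Cfsg.quadFormMinus k F a b v + ν * (t * t) := by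
  let f : ((MinI k → F) × F) → OddI (k + 1) → F := fun p =>
    Sum.elim (fun _ => p.1 (.inr 0) + a / 2 * p.1 (.inr 1))
      (Sum.elim (Fin.cons (p.1 (.inr 1) + p.2) fun i => p.1 (.inl (.inl i)))
        (Fin.cons (ν * (p.2 - p.1 (.inr 1))) fun i => p.1 (.inl (.inr i))))
  let Lm : ((MinI k → F) × F) →ₗ[F] (OddI (k + 1) → F) :=
    { toFun := f
      map_add' := fun p p' => by
        funext i
        rcases i with i | i | i
        · simp [f]; ring
        · refine Fin.cases ?_ (fun j => ?_) i <;> simp [f]; ring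
        · refine Fin.cases ?_ (fun j => ?_) i <;> simp [f]; ring
      map_smul' := fun c p => by
        funext i
        rcases i with i | i | i
        · simp [f]; ring
        · refine Fin.cases ?_ (fun j => ?_) i <;> simp [f]; ring
        · refine Fin.cases ?_ (fun j => ?_) i <;> simp [f]; ring }
  have hbij : Function.Bijective Lm := by
    classical
    refine (Fintype.bijective_iff_injective_and_card Lm).2 ⟨?_, ?_⟩
    · refine (injective_iff_map_eq_zero Lm).2 fun p hp => ?_
      have h0 := congrFun hp (.inl ())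
      have h1 := congrFun hp (.inr (.inl 0))
      have h2' := congrFun hp (.inr (.inr 0))
      simp [Lm, f, hν0] at h0 h1 h2'
      have hz1 : p.1 (.inr 1) = 0 :=
        (mul_eq_zero.1 (show (2 : F) * p.1 (.inr 1) = 0 by linear_combination h1 - h2')).resolve_left h2
      rw [hz1] at h0 h1
      simp at h0 h1
      refine Prod.ext (funext fun i => ?_) h1
      rcases i with (i | i) | i
      · simpa [Lm, f] using congrFun hp (.inr (.inl i.succ))
      · simpa [Lm, f] using congrFun hp (.inr (.inr i.succ))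
      · fin_cases i
        · exact h0
        · exact hz1
    · simp only [Fintype.card_prod, Fintype.card_fun, Fintype.card_sum, Fintype.card_unit, Fintype.card_fin]
      rw [← pow_succ]
      congr 1
      omega
  refine ⟨LinearEquiv.ofBijective Lm hbij, fun v t => ?_⟩
  rw [FormsLib.qOdd_apply, Fin.sum_univ_succ]
  simp [Lm, f, Cfsg.quadFormMinus, hν]
  field_simp
  ring

theorem isSquare_of_minus (h2 : (2 : F) ≠ 0) {a b ν : F}
    (hab : ∀ z₁ z₂ : F, z₁ ^ 2 + a * z₁ * z₂ + b * z₂ ^ 2 = 0 → z₁ = 0 ∧ z₂ = 0)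
    (hν : ν = (a / 2) ^ 2 - b) : ¬ IsSquare ν := by
  rintro ⟨s, hs⟩
  refine one_ne_zero (hab (s - a / 2) 1 ?_).2
  have : (a / 2) * 2 = a := by field_simp
  linear_combination (-1 : F) * hs + hν + (a / 2 - s) * this

section Odd

variable [Fintype F] (h2 : (2 : F) ≠ 0) (m : ℕ) (hm : 3 ≤ m)

include h2 hm

theorem qset_odd : QMax.QSetting (FormsLib.qOdd m F) :=
  ⟨FormsLib.qOdd_nondeg h2, by simp [Fintype.card_sum]; omega⟩

omit hm in
theorem odd_card : Odd (Fintype.card F) :=
  Nat.odd_iff.2 (FiniteField.odd_card_of_char_ne_two fun h =>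
    h2 (by have := CharP.cast_eq_zero F (ringChar F); rw [h] at this; exact_mod_cast this))

theorem sign_sub {S S' X : ℕ} (h : (Fintype.card F : ℤ) * ((S' : ℤ) - S) =
    (Fintype.card F : ℤ) ^ m * (X : ℤ)) (hX : Even X) :
    ((-1 : ℤˣ)) ^ ((S' - S) / 2) = (-1) ^ (X / 2) := by
  have hq : (Fintype.card F : ℤ) ≠ 0 := by exact_mod_cast Fintype.card_ne_zero
  obtain ⟨j, rfl⟩ : ∃ j, m = j + 1 := ⟨m - 1, by omega⟩
  rw [pow_succ', mul_assoc] at h
  have h1 := mul_left_cancel₀ hq h
  have h3 : S' = S + Fintype.card F ^ j * X := by zify; linarith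
  obtain ⟨Y, rfl⟩ := hX
  rw [h3, Nat.add_sub_cancel_left, show Fintype.card F ^ j * (Y + Y) = 2 * (Fintype.card F ^ j * Y) by ring,
    Nat.mul_div_cancel_left _ two_pos, pow_mul, (((odd_card h2).pow : Odd (Fintype.card F ^ j))).neg_one_pow,
    show (Y + Y) / 2 = Y by omega]

theorem sing_odd : (Fintype.card F : ℤ) * (Nat.card (OrthChar.Sing (FormsLib.qOdd m F)) *
    ((Fintype.card F : ℤ) - 1) + 1) = (Fintype.card F : ℤ) ^ (2 * m + 1) := by
  classical
  have h := OrthChar.card_zero_eq (FormsLib.qOdd m F)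
  rw [FormsLib.coe_qOdd] at h
  have h' := FormCount.card_odd (F := F) m
  rw [h] at h'
  push_cast [Fintype.card_pos] at h'
  exact h'

/-- The sign of the reflection in `x₀`. -/
theorem chi_plus : ∀ hc, OrthChar.chi (FormsLib.qOdd m F) (FormsLib.oRefl (FormsLib.qOdd m F) (plusL m (0, 1)) hc) =
    (-1) ^ ((Fintype.card F ^ m - 1) / 2) := by
  classical
  intro hc
  rw [OrthChar.chi_refl_extend (plusL m) 1 (plusL_spec m) h2 hc]
  refine sign_sub h2 m hm ?_ (Nat.Odd.sub_odd (odd_card h2).pow odd_one)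
  have hq1 : ((Fintype.card F : ℤ) - 1) ≠ 0 := by
    have : 1 < Fintype.card F := Fintype.one_lt_card
    omega
  have h := OrthChar.card_zero_eq (OrthOrder.qPlus m F)
  rw [show (⇑(OrthOrder.qPlus m F) : _ → F) = Cfsg.quadFormPlus m F from funext (OrthOrder.qPlus_apply m)] at h
  have h' := FormCount.card_plus (F := F) m 0
  rw [h, if_pos rfl] at h'
  push_cast [Fintype.card_pos] at h'
  have ho := sing_odd h2 m hm
  rw [Nat.cast_sub (Nat.one_le_pow _ _ Fintype.card_pos)]
  push_cast
  apply mul_right_cancel₀ hq1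
  linear_combination (norm := skip) ho - h'
  rw [show 2 * m + 1 = m + m + 1 by ring, show 2 * m = m + m by ring, pow_succ, pow_add]
  ring

/-- The sign of the reflection whose orthogonal is elliptic. -/
theorem chi_minus {k : ℕ} (hk : m = k + 1) {a b ν : F}
    (hab : ∀ z₁ z₂ : F, z₁ ^ 2 + a * z₁ * z₂ + b * z₂ ^ 2 = 0 → z₁ = 0 ∧ z₂ = 0)
    {Q : QuadraticForm F (MinI k → F)} (hQ : ⇑Q = Cfsg.quadFormMinus k F a b)
    (L : ((MinI k → F) × F) ≃ₗ[F] (OddI m → F))
    (hL : ∀ v t, FormsLib.qOdd m F (L (v, t)) = Q v + ν * (t * t)) :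
    ∀ hc, OrthChar.chi (FormsLib.qOdd m F) (FormsLib.oRefl (FormsLib.qOdd m F) (L (0, 1)) hc) =
      (-1) ^ ((Fintype.card F ^ m + 1) / 2) := by
  classical
  intro hc
  rw [OrthChar.chi_refl_extend L ν hL h2 hc]
  refine sign_sub h2 m hm ?_ ((odd_card h2).pow.add_odd odd_one)
  have hq1 : ((Fintype.card F : ℤ) - 1) ≠ 0 := by
    have : 1 < Fintype.card F := Fintype.one_lt_card
    omega
  have h := OrthChar.card_zero_eq Q
  rw [hQ] at h
  have h' := FormCount.card_minus (F := F) k a b hab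
  rw [h] at h'
  push_cast [Fintype.card_pos] at h'
  have ho := sing_odd h2 m hm
  subst hk
  push_cast
  apply mul_right_cancel₀ hq1
  linear_combination (norm := skip) ho - h'
  rw [show 2 * (k + 1) + 1 = (k + 1) + (k + 1) + 1 by ring, show 2 * k + 2 = (k + 1) + (k + 1) by ring,
    pow_succ, pow_add]
  ring

open Classical in
/-- The sign character on reflections of the odd form. -/
theorem chi_refl_eq {v : OddI m → F} (hv : FormsLib.qOdd m F v ≠ 0) :
    OrthChar.chi (FormsLib.qOdd m F) (FormsLib.oRefl (FormsLib.qOdd m F) v hv) =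
      (-1) ^ ((Fintype.card F ^ m - 1) / 2) * (if IsSquare (FormsLib.qOdd m F v) then 1 else -1) := by
  classical
  have S := qset_odd h2 m hm
  have hcongr : ∀ (p : OddI m → F) (hp : FormsLib.qOdd m F p ≠ 0) (t : F), t ≠ 0 →
      FormsLib.qOdd m F v = t * t * FormsLib.qOdd m F p →
      OrthChar.chi (FormsLib.qOdd m F) (FormsLib.oRefl (FormsLib.qOdd m F) v hv) =
        OrthChar.chi (FormsLib.qOdd m F) (FormsLib.oRefl (FormsLib.qOdd m F) p hp) := fun p hp t ht h => by
    have h1 := OrthIndex.mk_refl_eq S hp hv ht h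
    have h3 : (FormsLib.oRefl (FormsLib.qOdd m F) v hv)⁻¹ * FormsLib.oRefl (FormsLib.qOdd m F) p hp ∈
        commutator (FormsLib.oGroup (FormsLib.qOdd m F)) := QuotientGroup.eq.1 h1
    have h4 := Abelianization.commutator_subset_ker (OrthChar.chi (FormsLib.qOdd m F)) h3
    rwa [MonoidHom.mem_ker, map_mul, map_inv, inv_mul_eq_one] at h4
  by_cases hs : IsSquare (FormsLib.qOdd m F v)
  · obtain ⟨t, ht⟩ := hs
    have e : FormsLib.qOdd m F (plusL m (0, 1)) = 1 := by
      rw [plusL_spec, QuadraticMap.map_zero]; ring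
    have hc : FormsLib.qOdd m F (plusL m (0, 1)) ≠ 0 := by rw [e]; exact one_ne_zero
    rw [if_pos ⟨t, ht⟩, mul_one, hcongr _ hc t (fun h0 => hv (by rw [ht, h0, mul_zero]))
      (by rw [e, mul_one, ht]), chi_plus h2 m hm hc]
  · obtain ⟨k, hk⟩ : ∃ k, m = k + 1 := ⟨m - 1, by omega⟩
    subst hk
    set ν := FormsLib.qOdd (k + 1) F v with hν
    have hab : ∀ z₁ z₂ : F, z₁ ^ 2 + 0 * z₁ * z₂ + -ν * z₂ ^ 2 = 0 → z₁ = 0 ∧ z₂ = 0 := by
      intro z₁ z₂ h
      by_cases hz : z₂ = 0
      · subst hz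
        simp at h
        exact ⟨h, rfl⟩
      · refine absurd ⟨z₁ / z₂, ?_⟩ hs
        field_simp
        linear_combination -h
    obtain ⟨Q, hQ, -⟩ := OrthForms.exists_qMinus k 0 (-ν) hab
    obtain ⟨L, hL⟩ := exists_minusL h2 k 0 (-ν) ν (by ring) hv
    have hL' : ∀ v t, FormsLib.qOdd (k + 1) F (L (v, t)) = Q v + ν * (t * t) := fun v t => by
      rw [hL, hQ]
    have e : FormsLib.qOdd (k + 1) F (L (0, 1)) = ν := by rw [hL', QuadraticMap.map_zero]; ring
    have hc : FormsLib.qOdd (k + 1) F (L (0, 1)) ≠ 0 := by rw [e]; exact hv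
    rw [if_neg hs, hcongr _ hc 1 one_ne_zero (by rw [e]; ring),
      chi_minus h2 (k + 1) hm rfl hab hQ L hL' hc]
    obtain ⟨j, hj⟩ := (odd_card h2).pow (n := k + 1)
    rw [hj, show (2 * j + 1 + 1) / 2 = j + 1 by omega, show (2 * j + 1 - 1) / 2 = j by omega, pow_succ]

/-- The sign character separates two covering reflections. -/
theorem chi_ne_of_cover {p p' : OddI m → F} (hp : FormsLib.qOdd m F p ≠ 0) (hp' : FormsLib.qOdd m F p' ≠ 0)
    (hcov : ∀ c : F, c ≠ 0 → ∃ t : F, t ≠ 0 ∧
      (c = t * t * FormsLib.qOdd m F p ∨ c = t * t * FormsLib.qOdd m F p')) :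
    OrthChar.chi (FormsLib.qOdd m F) (FormsLib.oRefl (FormsLib.qOdd m F) p hp) ≠
      OrthChar.chi (FormsLib.qOdd m F) (FormsLib.oRefl (FormsLib.qOdd m F) p' hp') := by
  classical
  rw [chi_refl_eq h2 m hm hp, chi_refl_eq h2 m hm hp']
  intro e
  have e' := mul_left_cancel e
  have hodd : ringChar F ≠ 2 := fun h => h2 (by
    have := CharP.cast_eq_zero F (ringChar F); rw [h] at this; exact_mod_cast this)
  have hiff : IsSquare (FormsLib.qOdd m F p) ↔ IsSquare (FormsLib.qOdd m F p') := by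
    by_cases h1 : IsSquare (FormsLib.qOdd m F p) <;> by_cases h2' : IsSquare (FormsLib.qOdd m F p') <;>
      simp [h1, h2'] at e' ⊢
  by_cases h1 : IsSquare (FormsLib.qOdd m F p)
  · obtain ⟨ν, hν⟩ := FiniteField.exists_nonsquare (F := F) hodd
    obtain ⟨t, -, h | h⟩ := hcov ν fun h0 => hν (h0 ▸ IsSquare.zero)
    · exact hν (h ▸ (IsSquare.mul_self t).mul h1)
    · exact hν (h ▸ (IsSquare.mul_self t).mul (hiff.1 h1))
  · obtain ⟨t, ht, h | h⟩ := hcov 1 one_ne_zero
    · exact h1 ⟨t⁻¹, by field_simp; linear_combination -h⟩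
    · exact h1 (hiff.2 ⟨t⁻¹, by field_simp; linear_combination -h⟩)

end Odd

section Parity

variable {ι : Type} [Fintype ι] [DecidableEq ι] [Finite F] {Q : QuadraticForm F (ι → F)} (S : QSetting Q)

include S

/-- In characteristic two the fixed space of an element of the derived group has the parity of the
dimension. -/
theorem fix_parity (h2 : (2 : F) = 0) {g : (ι → F) ≃ₗ[F] (ι → F)} (hg : g ∈ Om (Q := Q)) :
    Module.finrank F (LinearMap.ker ((g : (ι → F) →ₗ[F] (ι → F)) - LinearMap.id)) % 2 =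
      Fintype.card ι % 2 := by
  classical
  let E := LinearEquiv.sumArrowLequivProdArrow ι ι F F
  let Q2 : QuadraticForm F (ι ⊕ ι → F) := (Q.prod Q).comp E.toLinearMap
  have hQ2 : ∀ v, Q2 v = Q (E v).1 + Q (E v).2 := fun v => by simp [Q2]
  have S2 : QSetting Q2 := by
    refine ⟨OrthOrder.nondegenerate_congr E (Q' := Q.prod Q) (fun v => rfl) (OrthOrder.nondegenerate_iff.2 fun x hx => ?_), ?_⟩
    · have h := OrthOrder.nondegenerate_iff.1 S.nondeg
      refine Prod.ext (h _ fun y => ?_) (h _ fun y => ?_)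
      · have := hx (y, 0)
        simpa [QuadraticMap.polar, QuadraticMap.map_zero] using this
      · have := hx (0, y)
        simpa [QuadraticMap.polar, QuadraticMap.map_zero] using this
    · have := S.dim
      simp
      omega
  let ext2 : FormsLib.oGroup Q →* FormsLib.oGroup Q2 :=
    { toFun := fun h => ⟨E.trans ((h.1.prodCongr (LinearEquiv.refl F (ι → F))).trans E.symm), fun v => by
        simp only [hQ2, LinearEquiv.trans_apply, LinearEquiv.apply_symm_apply,
          LinearEquiv.prodCongr_apply, LinearEquiv.refl_apply]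
        rw [h.2]⟩
      map_one' := Subtype.ext (LinearEquiv.ext fun v => by
        simp only [Subgroup.coe_one, LinearEquiv.trans_apply, LinearEquiv.prodCongr_apply,
          LinearEquiv.refl_apply, LinearEquiv.coe_one, id_eq, Prod.mk.eta, LinearEquiv.symm_apply_apply])
      map_mul' := fun h h' => Subtype.ext (LinearEquiv.ext fun v => by
        simp only [Subgroup.coe_mul, LinearEquiv.mul_apply, LinearEquiv.trans_apply,
          LinearEquiv.apply_symm_apply, LinearEquiv.prodCongr_apply, LinearEquiv.refl_apply]) }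
  rw [← OrthIndex.map_commutator_eq] at hg
  obtain ⟨g, hgc, rfl⟩ := hg
  have hgl : glOf (ext2 g).1 ∈ Cfsg.Geo.omegaGL ⇑Q2 := by
    rw [omegaGL_eq S2]
    refine ⟨_, ?_, rfl⟩
    have h1 : (commutator (FormsLib.oGroup Q)).map ((FormsLib.oGroup Q2).subtype.comp ext2) ≤ Om (Q := Q2) := by
      rw [_root_.commutator_def, Subgroup.map_commutator]
      refine Subgroup.commutator_mono ?_ ?_ <;> rintro _ ⟨y, -, rfl⟩ <;> exact (ext2 y).2
    exact h1 ⟨g, hgc, rfl⟩
  let d : (ι → F) →ₗ[F] (ι ⊕ ι → F) := E.symm.toLinearMap.comp (LinearMap.id.prod LinearMap.id)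
  have hd : Function.Injective d := E.symm.injective.comp fun x y h => congrArg Prod.fst h
  set X := LinearMap.range d
  have hX : ∀ x ∈ X, Q2 x = 0 := by
    rintro _ ⟨v, rfl⟩
    rw [hQ2]
    simp [d, ← two_mul, h2]
  have hXd : Module.finrank F X = Fintype.card ι := by
    rw [LinearMap.finrank_range_of_inj hd, Module.finrank_fintype_fun_eq_card]
  have hpar := omega_parity S2 (m := Fintype.card ι) (by simp; ring) hX hX hXd hXd hgl
  rw [inf_idem, hXd] at hpar
  rw [← hpar]
  congr 1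
  have e : X ⊓ X.map (linOf (glOf (ext2 g).1) : (ι ⊕ ι → F) →ₗ[F] (ι ⊕ ι → F)) =
      (LinearMap.ker ((g.1 : (ι → F) →ₗ[F] (ι → F)) - LinearMap.id)).map d := by
    ext x
    have hlin : ∀ v, linOf (glOf (ext2 g).1) (d v) = E.symm (g.1 v, v) := fun v => by
      rw [linOf_apply, glOf_mulVec]
      simp [ext2, d]
    constructor
    · rintro ⟨⟨u, rfl⟩, _, ⟨v, rfl⟩, hv⟩
      have hv' : E.symm (g.1 v, v) = E.symm (u, u) := (hlin v).symm.trans hv
      have h1 := E.symm.injective hv'
      have hvu : v = u := congrArg Prod.snd h1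
      subst hvu
      exact ⟨v, by simpa [sub_eq_zero] using congrArg Prod.fst h1, rfl⟩
    · rintro ⟨v, hv, rfl⟩
      have hv' : g.1 v = v := by simpa [sub_eq_zero] using hv
      exact ⟨⟨v, rfl⟩, d v, ⟨v, rfl⟩, (hlin v).trans (by rw [hv']; rfl)⟩
  rw [e]
  exact (Submodule.equivMapOfInjective d hd _).finrank_eq

theorem refl_notMem (h2 : (2 : F) = 0) {p : ι → F} (hp : Q p ≠ 0) :
    FormsLib.refl Q p hp ∉ Om (Q := Q) := by
  intro h
  have h1 := fix_parity S h2 h
  have hp0 : p ≠ 0 := fun e => hp (by rw [e, QuadraticMap.map_zero])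
  have hk : LinearMap.ker ((FormsLib.refl Q p hp : (ι → F) →ₗ[F] (ι → F)) - LinearMap.id) =
      LinearMap.ker ((pB Q).flip p) := by
    ext x
    simp [FormsLib.refl_apply, smul_eq_zero, hp0, hp]
  have hr : Function.Surjective ((pB Q).flip p) := by
    obtain ⟨x, hx⟩ := S.exists_values (v := ![p]) (by simp [linearIndependent_unique_iff, hp0]) ![1]
    intro c
    refine ⟨c • x, ?_⟩
    have hx' : pB Q x p = 1 := hx 0
    show pB Q (c • x) p = c
    rw [map_smul, LinearMap.smul_apply, hx', smul_eq_mul, mul_one]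
  have h3 := LinearMap.finrank_range_add_finrank_ker ((pB Q).flip p)
  rw [LinearMap.range_eq_top.2 hr, finrank_top, Module.finrank_self, Module.finrank_fintype_fun_eq_card] at h3
  rw [hk] at h1
  omega

/-- The derived group has index two in characteristic two. -/
theorem index_two (h2 : (2 : F) = 0) :
    Nat.card (FormsLib.oGroup Q) = 2 * Nat.card (Om (Q := Q)) := by
  classical
  haveI : Finite (FormsLib.oGroup Q) := Finite.of_injective (fun g v => g.1 v) fun g h e =>
    Subtype.ext (LinearEquiv.ext (congrFun e))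
  obtain ⟨p, -, -, hp⟩ := S.topDec.exists_aniso (k := 0) ![]
    (by rw [S.finrank_top_eq]; have := S.dim; omega)
  have hcov : ∀ c : F, c ≠ 0 → ∃ t : F, t ≠ 0 ∧ (c = t * t * Q p ∨ c = t * t * Q p) := by
    intro c hc
    obtain ⟨t, ht⟩ := S.exists_sq h2 (c / Q p)
    refine ⟨t, fun e => hc ?_, Or.inl (by rw [ht, div_mul_cancel₀ _ hp])⟩
    rw [e, mul_zero, eq_comm, div_eq_zero_iff] at ht
    exact ht.resolve_right hp
  set r := FormsLib.oRefl Q p hp
  have hrr : r * r = 1 := Subtype.ext (FormsLib.refl_mul_self Q hp)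
  have hr : r ∉ commutator (FormsLib.oGroup Q) := fun h => refl_notMem S h2 hp (by
    rw [← OrthIndex.map_commutator_eq]; exact ⟨r, h, rfl⟩)
  rw [Subgroup.card_eq_card_quotient_mul_card_subgroup (commutator (FormsLib.oGroup Q)),
    OrthIndex.card_commutator]
  congr 1
  rw [Nat.card_eq_two_iff]
  refine ⟨(1 : FormsLib.oGroup Q ⧸ commutator (FormsLib.oGroup Q)), (r : FormsLib.oGroup Q ⧸ _),
    fun e => hr ((QuotientGroup.eq_one_iff r).1 e.symm), Set.eq_univ_of_forall fun z => ?_⟩
  induction z using QuotientGroup.induction_on with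
  | H x =>
    rcases OrthIndex.quot_cases S hp hp hcov x with h | h | h | h
    · exact Or.inl h
    · exact Or.inr h
    · exact Or.inr h
    · exact Or.inl (h.trans (by rw [show FormsLib.oRefl Q p hp * FormsLib.oRefl Q p hp = 1 from hrr]; rfl))

end Parity

end Cfsg.Agent.OrthSigns
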