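import Cfsg.Agent.Lib.Forms.OddInvol
import Cfsg.Agent.Lib.SmallSimple.PrimeSylow
import Mathlib

/-!
The sign of an isometry as a permutation of the singular points.
-/

set_option autoImplicit false

namespace Cfsg.Agent.OrthChar

open Projectivization QuadraticMap
open scoped LinearAlgebra.Projectivization

variable {F W : Type*} [Field F] [AddCommGroup W] [Module F W]

/-- The singular points. -/
def Sing (Q : QuadraticForm F W) : Type _ := {p : ℙ F W // Q p.rep = 0}

theorem rep_iff (Q : QuadraticForm F W) {v : W} (hv : v ≠ 0) :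
    Q (Projectivization.mk F v hv).rep = 0 ↔ Q v = 0 := by
  obtain ⟨a, ha⟩ := (mk_eq_mk_iff' F _ v (rep_nonzero _) hv).1 (mk_rep (Projectivization.mk F v hv))
  have ha0 : a ≠ 0 := fun h => rep_nonzero (Projectivization.mk F v hv) (by rw [← ha, h, zero_smul])
  rw [← ha, QuadraticMap.map_smul, smul_eq_mul, mul_eq_zero, or_iff_right (mul_ne_zero ha0 ha0)]

instance [Finite W] (Q : QuadraticForm F W) : Finite (Sing Q) := by
  haveI : Finite (ℙ F W) := inferInstance
  exact Subtype.finite

/-- The action on singular points. -/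
noncomputable def singMap (Q : QuadraticForm F W) (g : FormsLib.oGroup Q) (p : Sing Q) : Sing Q :=
  ⟨Projectivization.mk F (g.1 p.1.rep) (fun h => rep_nonzero p.1 (g.1.map_eq_zero_iff.1 h)),
    (rep_iff Q _).2 ((g.2 _).trans p.2)⟩

theorem singMap_mk (Q : QuadraticForm F W) (g : FormsLib.oGroup Q) {v : W} (hv : v ≠ 0)
    (h : Q (Projectivization.mk F v hv).rep = 0) :
    (singMap Q g ⟨Projectivization.mk F v hv, h⟩).1 =
      Projectivization.mk F (g.1 v) (fun h => hv (g.1.map_eq_zero_iff.1 h)) := by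
  obtain ⟨a, ha⟩ := (mk_eq_mk_iff' F _ v (rep_nonzero _) hv).1 (mk_rep (Projectivization.mk F v hv))
  exact (mk_eq_mk_iff' F _ _ _ _).2 ⟨a, by rw [← map_smul, ha]⟩

theorem singMap_mul (Q : QuadraticForm F W) (g h : FormsLib.oGroup Q) (p : Sing Q) :
    singMap Q (g * h) p = singMap Q g (singMap Q h p) :=
  Subtype.ext (singMap_mk Q g _ (singMap Q h p).2).symm

theorem singMap_one (Q : QuadraticForm F W) (p : Sing Q) : singMap Q 1 p = p :=
  Subtype.ext ((mk_eq_mk_iff' F _ _ _ _).2 ⟨1, one_smul _ _⟩ |>.trans (mk_rep p.1))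

/-- The permutation representation on singular points. -/
noncomputable def singPerm (Q : QuadraticForm F W) : FormsLib.oGroup Q →* Equiv.Perm (Sing Q) where
  toFun g := ⟨singMap Q g, singMap Q g⁻¹,
    fun p => by rw [← singMap_mul, inv_mul_cancel, singMap_one],
    fun p => by rw [← singMap_mul, mul_inv_cancel, singMap_one]⟩
  map_one' := Equiv.ext (singMap_one Q)
  map_mul' g h := Equiv.ext (singMap_mul Q g h)

open Classical in
/-- The sign on singular points. -/
noncomputable def chi [Finite W] (Q : QuadraticForm F W) : FormsLib.oGroup Q →* ℤˣ :=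
  haveI := Fintype.ofFinite (Sing Q)
  (Equiv.Perm.sign).comp (singPerm Q)

theorem chi_congr [Finite W] (Q : QuadraticForm F W) {g h : FormsLib.oGroup Q}
    (e : singPerm Q g = singPerm Q h) : chi Q g = chi Q h := by
  simp [chi, e]

/-- The sign of an involution. -/
theorem chi_involution [Finite W] (Q : QuadraticForm F W) {g : FormsLib.oGroup Q} (h : g * g = 1) :
    chi Q g = (-1) ^ ((Nat.card (Sing Q) - Nat.card {p : Sing Q // singMap Q g p = p}) / 2) := by
  classical
  haveI := Fintype.ofFinite (Sing Q)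
  have h1 : chi Q g = Equiv.Perm.sign (singPerm Q g) := by
    simp only [chi, MonoidHom.comp_apply]
    convert rfl
  rw [h1, Cfsg.Agent.SmallSimple.sign_of_involutive _ (by rw [← map_mul, h, map_one])]
  congr 2
  rw [Nat.card_eq_fintype_card, Nat.card_eq_fintype_card, ← Fintype.card_subtype_compl]
  rw [Fintype.card_subtype]
  congr 1

/-- Non-zero singular vectors. -/
theorem card_zero_eq [Fintype F] [Finite W] (Q : QuadraticForm F W) :
    Nat.card {v : W // Q v = 0} = Nat.card (Sing Q) * (Fintype.card F - 1) + 1 := by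
  classical
  let e : {v : W // Q v = 0} ≃ Option (Sing Q × Fˣ) := Equiv.symm <| Equiv.ofBijective
    (fun o => o.elim ⟨0, QuadraticMap.map_zero Q⟩ fun pu =>
      ⟨(pu.2 : F) • pu.1.1.rep, by rw [QuadraticMap.map_smul, pu.1.2, smul_zero]⟩) ⟨?_, ?_⟩
  · rw [Nat.card_congr e, Finite.card_option, Nat.card_prod, Nat.card_units, Nat.card_eq_fintype_card (α := F)]
  · intro o o' h
    have h' := congrArg Subtype.val h
    rcases o with _ | ⟨p, u⟩ <;> rcases o' with _ | ⟨p', u'⟩ <;> simp only [Option.elim] at h'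
    · rfl
    · exact absurd h'.symm (smul_ne_zero u'.ne_zero (rep_nonzero _))
    · exact absurd h' (smul_ne_zero u.ne_zero (rep_nonzero _))
    · have hp : p = p' := Subtype.ext (by
        rw [← mk_rep p.1, ← mk_rep p'.1, mk_eq_mk_iff']
        exact ⟨(u : F)⁻¹ * u', by rw [← smul_smul, ← h', smul_smul, inv_mul_cancel₀ u.ne_zero, one_smul]⟩)
      subst hp
      rw [Units.ext (smul_left_injective F (rep_nonzero p.1) h')]
  · rintro ⟨v, hv⟩
    rcases eq_or_ne v 0 with rfl | hv0
    · exact ⟨none, rfl⟩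
    obtain ⟨a, ha⟩ := (mk_eq_mk_iff' F _ v (rep_nonzero _) hv0).1 (mk_rep (Projectivization.mk F v hv0))
    have ha0 : a ≠ 0 := fun h => rep_nonzero (Projectivization.mk F v hv0) (by rw [← ha, h, zero_smul])
    refine ⟨some (⟨Projectivization.mk F v hv0, (rep_iff Q hv0).2 hv⟩, Units.mk0 a⁻¹ (inv_ne_zero ha0)),
      Subtype.ext ?_⟩
    show a⁻¹ • (Projectivization.mk F v hv0).rep = v
    rw [← ha, smul_smul, inv_mul_cancel₀ ha0, one_smul]

section Extend

variable {V : Type*} [AddCommGroup V] [Module F V] {Q : QuadraticForm F W} {Q' : QuadraticForm F V}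
variable (L : (W × F) ≃ₗ[F] V) (c : F) (hL : ∀ v t, Q' (L (v, t)) = Q v + c * (t * t))

include hL

theorem polar_extend (v : W) (t : F) : polar Q' (L (v, t)) (L (0, 1)) = 2 * (c * t) := by
  simp only [polar, ← map_add, hL, Prod.mk_add_mk, add_zero, QuadraticMap.map_zero]
  ring

theorem refl_extend (hc : Q' (L (0, 1)) ≠ 0) (v : W) (t : F) :
    FormsLib.refl Q' (L (0, 1)) hc (L (v, t)) = L (v, -t) := by
  have hc' : c ≠ 0 := by
    intro h
    rw [hL, h, QuadraticMap.map_zero, zero_mul, add_zero] at hc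
    exact hc rfl
  have e : Q' (L (0, 1)) = c := by rw [hL]; simp
  rw [FormsLib.refl_apply, polar_extend L c hL, e, show c⁻¹ * (2 * (c * t)) = 2 * t by field_simp,
    ← map_smul, ← map_sub]
  congr 1
  ext <;> simp
  ring

/-- Extension of isometries by the identity. -/
noncomputable def extendHom : FormsLib.oGroup Q →* FormsLib.oGroup Q' where
  toFun g := ⟨L.symm.trans ((g.1.prodCongr (LinearEquiv.refl F F)).trans L), fun x => by
    obtain ⟨⟨v, t⟩, rfl⟩ := L.surjective x
    simp only [LinearEquiv.trans_apply, LinearEquiv.symm_apply_apply, LinearEquiv.prodCongr_apply,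
      LinearEquiv.refl_apply, hL]
    rw [g.2]⟩
  map_one' := Subtype.ext (LinearEquiv.ext fun x => by
    obtain ⟨⟨v, t⟩, rfl⟩ := L.surjective x
    simp only [Subgroup.coe_one, LinearEquiv.trans_apply, LinearEquiv.symm_apply_apply,
      LinearEquiv.prodCongr_apply, LinearEquiv.refl_apply, LinearEquiv.coe_one, id_eq])
  map_mul' g h := Subtype.ext (LinearEquiv.ext fun x => by
    obtain ⟨⟨v, t⟩, rfl⟩ := L.surjective x
    simp only [Subgroup.coe_mul, LinearEquiv.mul_apply, LinearEquiv.trans_apply,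
      LinearEquiv.symm_apply_apply, LinearEquiv.prodCongr_apply, LinearEquiv.refl_apply])

theorem extendHom_apply (g : FormsLib.oGroup Q) (v : W) (t : F) :
    (extendHom L c hL g).1 (L (v, t)) = L (g.1 v, t) := by
  simp [extendHom]

theorem extendHom_refl {p : W} (hp : Q p ≠ 0) :
    ∃ hp' : Q' (L (p, 0)) ≠ 0, extendHom L c hL (FormsLib.oRefl Q p hp) =
      FormsLib.oRefl Q' (L (p, 0)) hp' := by
  have e : Q' (L (p, 0)) = Q p := by rw [hL]; simp
  refine ⟨by rw [e]; exact hp, Subtype.ext (LinearEquiv.ext fun x => ?_)⟩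
  obtain ⟨⟨v, t⟩, rfl⟩ := L.surjective x
  rw [extendHom_apply]
  show L (FormsLib.refl Q p hp v, t) = FormsLib.refl Q' (L (p, 0)) (by rw [e]; exact hp) (L (v, t))
  have e2 : polar Q' (L (v, t)) (L (p, 0)) = polar Q v p := by
    simp only [polar, ← map_add, hL, Prod.mk_add_mk, add_zero]
    ring
  rw [FormsLib.refl_apply, FormsLib.refl_apply, e, e2, ← map_smul, ← map_sub]
  congr 1
  ext <;> simp

/-- The reflection in the new vector. -/
theorem chi_refl_extend [Finite W] [Finite V] [Finite F] (h2 : (2 : F) ≠ 0) (hc : Q' (L (0, 1)) ≠ 0) :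
    chi Q' (FormsLib.oRefl Q' (L (0, 1)) hc) =
      (-1) ^ ((Nat.card (Sing Q') - Nat.card (Sing Q)) / 2) := by
  rw [chi_involution Q' (Subtype.ext (FormsLib.refl_mul_self Q' hc))]
  congr 3
  have hc' : c ≠ 0 := by
    intro h
    rw [hL, h, QuadraticMap.map_zero, zero_mul, add_zero] at hc
    exact hc rfl
  let i : W →ₗ[F] V := L.toLinearMap.comp (LinearMap.inl F W F)
  have hi : Function.Injective i := L.injective.comp LinearMap.inl_injective
  have hiQ : ∀ v, Q' (i v) = Q v := fun v => by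
    show Q' (L (v, 0)) = Q v
    rw [hL]; simp
  refine (Nat.card_congr (Equiv.ofBijective (fun p : Sing Q =>
    (⟨⟨Projectivization.mk F (i p.1.rep) (fun h => rep_nonzero p.1 (hi (h.trans (map_zero i).symm))),
      (rep_iff Q' _).2 ((hiQ _).trans p.2)⟩, ?_⟩ :
      {x : Sing Q' // singMap Q' (FormsLib.oRefl Q' (L (0, 1)) hc) x = x})) ⟨?_, ?_⟩)).symm
  · refine Subtype.ext ((singMap_mk Q' _ _ _).trans ((mk_eq_mk_iff' F _ _ _ _).2 ⟨1, ?_⟩))
    show (1 : F) • i p.1.rep = FormsLib.refl Q' (L (0, 1)) hc (L (p.1.rep, 0))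
    rw [refl_extend L c hL, neg_zero, one_smul]
    rfl
  · intro p p' h
    have h' : Projectivization.mk F (i p.1.rep) _ = Projectivization.mk F (i p'.1.rep) _ :=
      congrArg (fun x => x.1.1) h
    obtain ⟨a, ha⟩ := (mk_eq_mk_iff' F _ _ _ _).1 h'
    rw [← map_smul] at ha
    refine Subtype.ext ?_
    rw [← mk_rep p.1, ← mk_rep p'.1, mk_eq_mk_iff']
    exact ⟨a, hi ha⟩
  · rintro ⟨⟨x, hx⟩, hfix⟩
    induction x using Projectivization.ind with
    | h z hz =>
      obtain ⟨⟨v, t⟩, rfl⟩ := L.surjective z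
      have hq : Q v + c * (t * t) = 0 := by rw [← hL]; exact (rep_iff Q' hz).1 hx
      have h1 := (singMap_mk Q' (FormsLib.oRefl Q' (L (0, 1)) hc) hz hx).symm.trans (congrArg Subtype.val hfix)
      obtain ⟨a, ha⟩ := (mk_eq_mk_iff' F _ _ _ _).1 h1
      have ha' : a • L (v, t) = L (v, -t) := ha.trans (refl_extend L c hL hc v t)
      rw [← map_smul] at ha'
      have ha1 := congrArg Prod.fst (L.injective ha')
      have ha2 := congrArg Prod.snd (L.injective ha')
      simp at ha1 ha2
      have hv : v ≠ 0 := by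
        intro hv
        rw [hv, QuadraticMap.map_zero, zero_add, mul_eq_zero, mul_self_eq_zero] at hq
        exact hz (by rw [hv, hq.resolve_left hc', ← Prod.zero_eq_mk, map_zero])
      have ha0 : a = 1 := smul_left_injective F hv (ha1.trans (one_smul F v).symm)
      have ht : t = 0 := by
        rw [ha0, one_mul] at ha2
        exact (mul_eq_zero.1 (show (2 : F) * t = 0 by linear_combination ha2)).resolve_left h2
      subst ht
      have hq0 : Q v = 0 := by simpa using hq
      refine ⟨⟨Projectivization.mk F v hv, (rep_iff Q hv).2 hq0⟩, Subtype.ext (Subtype.ext ?_)⟩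
      obtain ⟨b, hb⟩ := (mk_eq_mk_iff' F _ v (rep_nonzero _) hv).1 (mk_rep (Projectivization.mk F v hv))
      refine (mk_eq_mk_iff' F _ _ _ _).2 ⟨b, ?_⟩
      show b • i v = i (Projectivization.mk F v hv).rep
      rw [← map_smul, hb]

/-- The extension of minus one moves points as the new reflection does. -/
theorem chi_extend_neg [Finite V] (hc : Q' (L (0, 1)) ≠ 0) (g : FormsLib.oGroup Q)
    (hg : ∀ v, g.1 v = -v) :
    chi Q' (extendHom L c hL g) = chi Q' (FormsLib.oRefl Q' (L (0, 1)) hc) := by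
  refine chi_congr Q' (Equiv.ext fun p => Subtype.ext ?_)
  obtain ⟨x, hx⟩ := p
  induction x using Projectivization.ind with
  | h z hz =>
    refine (singMap_mk Q' _ hz hx).trans (Eq.trans ?_ (singMap_mk Q' _ hz hx).symm)
    obtain ⟨⟨v, t⟩, rfl⟩ := L.surjective z
    refine (mk_eq_mk_iff' F _ _ _ _).2 ⟨-1, ?_⟩
    show (-1 : F) • FormsLib.refl Q' (L (0, 1)) hc (L (v, t)) = (extendHom L c hL g).1 (L (v, t))
    rw [refl_extend L c hL, extendHom_apply, hg, ← map_smul]
    simp

end Extend

end Cfsg.Agent.OrthChar
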