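import Cfsg.Agent.Lib.LinearGroups.OrthSimple
import Cfsg.Agent.Lib.LinearGroups.OrthChar

/-!
The index and the centre of the derived orthogonal group in dimension at least seven.
-/

set_option autoImplicit false

namespace Cfsg.Agent.OrthIndex

open scoped commutatorElement
open Cfsg.Agent Cfsg.Agent.TransvMax Cfsg.Agent.QMax Cfsg.Agent.OrthSimple

section General

variable {ι : Type} [Fintype ι] [DecidableEq ι] {F : Type*} [Field F] [Finite F]
  {Q : QuadraticForm F (ι → F)} (S : QSetting Q)

omit [Finite F] in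
theorem map_commutator_eq :
    (commutator (FormsLib.oGroup Q)).map (FormsLib.oGroup Q).subtype = Om (Q := Q) :=
  Subgroup.map_subtype_commutator _

omit [Finite F] in
theorem card_commutator :
    Nat.card (commutator (FormsLib.oGroup Q)) = Nat.card (Om (Q := Q)) := by
  rw [← map_commutator_eq]
  exact Nat.card_congr (Subgroup.equivMapOfInjective _ _ Subtype.val_injective).toEquiv

include S

/-- The class of a reflection in the abelianised group depends on the norm up to squares. -/
theorem mk_refl_eq {p v : ι → F} (hp : Q p ≠ 0) (hv : Q v ≠ 0) {t : F} (ht : t ≠ 0)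
    (h : Q v = t * t * Q p) :
    (FormsLib.oRefl Q v hv : FormsLib.oGroup Q ⧸ commutator (FormsLib.oGroup Q)) =
      (FormsLib.oRefl Q p hp : FormsLib.oGroup Q ⧸ commutator (FormsLib.oGroup Q)) := by
  have htp : Q (t • p) ≠ 0 := by rw [S.quad_smul]; exact mul_ne_zero (mul_ne_zero ht ht) hp
  have e1 : FormsLib.refl Q (t • p) htp = FormsLib.refl Q p hp := LinearEquiv.ext fun x => by
    rw [FormsLib.refl_apply, FormsLib.refl_apply, QuadraticMap.polar_smul_right, S.quad_smul,
      smul_smul, smul_eq_mul]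
    congr 2
    field_simp
  obtain ⟨g, hg⟩ := exists_map S (x := t • p) (y := v) (fun e => htp (by rw [e, QuadraticMap.map_zero]))
    (fun e => hv (by rw [e, QuadraticMap.map_zero])) ((S.quad_smul t p).trans h.symm)
  let g' : FormsLib.oGroup Q := ⟨g.1, mem_oGroup_of_mem_Om g.2⟩
  have e2 : FormsLib.oRefl Q v hv = g' * FormsLib.oRefl Q p hp * g'⁻¹ := by
    refine Subtype.ext ?_
    show FormsLib.refl Q v hv = g.1 * FormsLib.refl Q p hp * g.1⁻¹
    rw [← e1, FormsLib.refl_conj Q htp (mem_oGroup_of_mem_Om g.2)]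
    exact FormsLib.refl_congr Q _ _ hg.symm
  have hg' : (g' : FormsLib.oGroup Q ⧸ commutator (FormsLib.oGroup Q)) = 1 := by
    rw [QuotientGroup.eq_one_iff]
    have h1 : g.1 ∈ (commutator (FormsLib.oGroup Q)).map (FormsLib.oGroup Q).subtype := by
      rw [map_commutator_eq]; exact g.2
    obtain ⟨y, hy, hye⟩ := h1
    rwa [show g' = y from Subtype.ext hye.symm]
  rw [e2, QuotientGroup.mk_mul, QuotientGroup.mk_mul, QuotientGroup.mk_inv, hg']
  simp

/-- The abelianised orthogonal group is generated by two reflections. -/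
theorem quot_cases {p p' : ι → F} (hp : Q p ≠ 0) (hp' : Q p' ≠ 0)
    (hcov : ∀ c : F, c ≠ 0 → ∃ t : F, t ≠ 0 ∧ (c = t * t * Q p ∨ c = t * t * Q p'))
    (x : FormsLib.oGroup Q) :
    (x : FormsLib.oGroup Q ⧸ commutator (FormsLib.oGroup Q)) = 1 ∨
    (x : FormsLib.oGroup Q ⧸ commutator (FormsLib.oGroup Q)) = FormsLib.oRefl Q p hp ∨
    (x : FormsLib.oGroup Q ⧸ commutator (FormsLib.oGroup Q)) = FormsLib.oRefl Q p' hp' ∨
    (x : FormsLib.oGroup Q ⧸ commutator (FormsLib.oGroup Q)) =
      (FormsLib.oRefl Q p hp * FormsLib.oRefl Q p' hp' : FormsLib.oGroup Q) := by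
  let π := QuotientGroup.mk' (commutator (FormsLib.oGroup Q))
  set a := π (FormsLib.oRefl Q p hp) with ha
  set b := π (FormsLib.oRefl Q p' hp') with hb
  have haa : a * a = 1 := by
    rw [ha, ← map_mul, show FormsLib.oRefl Q p hp * FormsLib.oRefl Q p hp = 1 from
      Subtype.ext (FormsLib.refl_mul_self Q hp), map_one]
  have hbb : b * b = 1 := by
    rw [hb, ← map_mul, show FormsLib.oRefl Q p' hp' * FormsLib.oRefl Q p' hp' = 1 from
      Subtype.ext (FormsLib.refl_mul_self Q hp'), map_one]
  have hcomm : a * b = b * a := by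
    rw [ha, hb, ← map_mul, ← map_mul]
    refine (QuotientGroup.eq).2 ?_
    have := Subgroup.commutator_mem_commutator
      (Subgroup.mem_top (FormsLib.oRefl Q p' hp')⁻¹) (Subgroup.mem_top (FormsLib.oRefl Q p hp)⁻¹)
    rw [commutatorElement_def, inv_inv, inv_inv] at this
    rw [_root_.commutator_def, mul_inv_rev]
    simpa [mul_assoc] using this
  let M : Subgroup (FormsLib.oGroup Q) :=
    { carrier := {x | π x = 1 ∨ π x = a ∨ π x = b ∨ π x = a * b}
      one_mem' := Or.inl (map_one π)
      mul_mem' := by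
        intro x y hx hy
        simp only [Set.mem_ofPred_eq, map_mul]
        rcases hx with hx | hx | hx | hx <;> rcases hy with hy | hy | hy | hy <;> rw [hx, hy]
        · exact Or.inl (one_mul 1)
        · exact Or.inr (Or.inl (one_mul a))
        · exact Or.inr (Or.inr (Or.inl (one_mul b)))
        · exact Or.inr (Or.inr (Or.inr (one_mul _)))
        · exact Or.inr (Or.inl (mul_one a))
        · exact Or.inl haa
        · exact Or.inr (Or.inr (Or.inr rfl))
        · exact Or.inr (Or.inr (Or.inl (by rw [← mul_assoc, haa, one_mul])))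
        · exact Or.inr (Or.inr (Or.inl (mul_one b)))
        · exact Or.inr (Or.inr (Or.inr hcomm.symm))
        · exact Or.inl hbb
        · exact Or.inr (Or.inl (by rw [← mul_assoc, ← hcomm, mul_assoc, hbb, mul_one]))
        · exact Or.inr (Or.inr (Or.inr (mul_one _)))
        · exact Or.inr (Or.inr (Or.inl (by rw [mul_assoc, ← hcomm, ← mul_assoc, haa, one_mul])))
        · exact Or.inr (Or.inl (by rw [mul_assoc, hbb, mul_one]))
        · exact Or.inl (by rw [mul_assoc, ← mul_assoc b, ← hcomm, mul_assoc a b b, hbb, mul_one, haa])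
      inv_mem' := by
        intro x hx
        simp only [Set.mem_ofPred_eq, map_inv]
        rcases hx with hx | hx | hx | hx <;> rw [hx]
        · exact Or.inl inv_one
        · exact Or.inr (Or.inl (inv_eq_of_mul_eq_one_right haa))
        · exact Or.inr (Or.inr (Or.inl (inv_eq_of_mul_eq_one_right hbb)))
        · exact Or.inr (Or.inr (Or.inr (by
            rw [mul_inv_rev, inv_eq_of_mul_eq_one_right haa, inv_eq_of_mul_eq_one_right hbb, hcomm]))) }
  suffices h : FormsLib.oGroup Q ≤ M.map (FormsLib.oGroup Q).subtype by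
    obtain ⟨y, hy, hye⟩ := h x.2
    rw [show x = y from Subtype.ext hye.symm]
    exact hy
  refine oGroup_le_of_gens S (fun u w hu hw => ?_) fun v hv => ⟨FormsLib.oRefl Q v hv, ?_, rfl⟩
  · have h1 : S.siegel u w hu hw ∈ (commutator (FormsLib.oGroup Q)).map (FormsLib.oGroup Q).subtype := by
      rw [map_commutator_eq]
      exact siegel_mem_commutator S hu hw
    obtain ⟨y, hy, hye⟩ := h1
    exact ⟨y, Or.inl ((QuotientGroup.eq_one_iff y).2 hy), hye⟩
  · obtain ⟨t, ht, h | h⟩ := hcov (Q v) hv
    · exact Or.inr (Or.inl (mk_refl_eq S hp hv ht h))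
    · exact Or.inr (Or.inr (Or.inl (mk_refl_eq S hp' hv ht h)))

omit S [Finite F] in
theorem det_refl {v : ι → F} (hv : Q v ≠ 0) : LinearEquiv.det (FormsLib.refl Q v hv) = -1 := by
  apply Units.ext
  rw [LinearEquiv.coe_det, Units.val_neg, Units.val_one]
  have : (FormsLib.refl Q v hv : (ι → F) →ₗ[F] (ι → F)) =
      LinearMap.transvection (-((Q v)⁻¹ • (QuadraticMap.polarBilin Q).flip v)) v := LinearMap.ext fun x => by
    simp [LinearMap.transvection.apply, sub_eq_add_neg]
  rw [this, LinearMap.transvection.det]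
  simp [FormsLib.polar_self']
  field_simp
  ring

/-- The derived group has index four in odd characteristic, given a character separating the two
classes of reflections. -/
theorem index_four (h2 : (2 : F) ≠ 0) (χ : FormsLib.oGroup Q →* ℤˣ) {p p' : ι → F} (hp : Q p ≠ 0)
    (hp' : Q p' ≠ 0) (hcov : ∀ c : F, c ≠ 0 → ∃ t : F, t ≠ 0 ∧ (c = t * t * Q p ∨ c = t * t * Q p'))
    (hne : χ (FormsLib.oRefl Q p hp) ≠ χ (FormsLib.oRefl Q p' hp')) :
    Nat.card (FormsLib.oGroup Q) = 4 * Nat.card (Om (Q := Q)) ∧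
    ∀ g : FormsLib.oGroup Q, g.1 ∈ Om (Q := Q) ↔ LinearEquiv.det g.1 = 1 ∧ χ g = 1 := by
  classical
  haveI : Finite (FormsLib.oGroup Q) := Finite.of_injective (fun g v => g.1 v) fun g h e =>
    Subtype.ext (LinearEquiv.ext (congrFun e))
  let O' := commutator (FormsLib.oGroup Q)
  let Φ : FormsLib.oGroup Q →* Fˣ × ℤˣ := (LinearEquiv.det.comp (FormsLib.oGroup Q).subtype).prod χ
  have hΦ : O' ≤ Φ.ker := Abelianization.commutator_subset_ker Φ
  set r := FormsLib.oRefl Q p hp
  set r' := FormsLib.oRefl Q p' hp'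
  have hm1 : (-1 : Fˣ) ≠ 1 := fun h => h2 (by
    have h1 : ((-1 : Fˣ) : F) = ((1 : Fˣ) : F) := congrArg Units.val h
    rw [Units.val_neg, Units.val_one] at h1
    linear_combination -h1)
  have hr : Φ r = (-1, χ r) := Prod.ext (det_refl hp) rfl
  have hr' : Φ r' = (-1, χ r') := Prod.ext (det_refl hp') rfl
  have hrr : Φ (r * r') = (1, -1) := by
    rw [map_mul, hr, hr']
    refine Prod.ext (by simp) ?_
    rcases Int.units_eq_one_or (χ r) with h | h <;> rcases Int.units_eq_one_or (χ r') with h' | h' <;>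
      simp_all
  have hker : ∀ g : FormsLib.oGroup Q, Φ g = 1 → g ∈ O' := by
    intro g hg
    have key : ∀ y : FormsLib.oGroup Q,
        (g : FormsLib.oGroup Q ⧸ O') = y → Φ y = 1 := fun y h => by
      rw [← hg]
      have h1 : y⁻¹ * g ∈ O' := QuotientGroup.eq.1 h.symm
      have h3 := hΦ h1
      rw [MonoidHom.mem_ker, map_mul, map_inv, inv_mul_eq_one] at h3
      exact h3
    rcases quot_cases S hp hp' hcov g with h | h | h | h
    · exact (QuotientGroup.eq_one_iff g).1 h
    · have := key _ h; rw [hr] at this; exact absurd (congrArg Prod.fst this) hm1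
    · have := key _ h; rw [hr'] at this; exact absurd (congrArg Prod.fst this) hm1
    · have := key _ h; rw [hrr] at this; exact absurd (congrArg Prod.snd this) (by simp)
  refine ⟨?_, fun g => ?_⟩
  · have hcard := Subgroup.card_eq_card_quotient_mul_card_subgroup O'
    rw [hcard, show Nat.card O' = Nat.card (Om (Q := Q)) from card_commutator]
    congr 1
    let l : List (FormsLib.oGroup Q ⧸ O') := [1, (r : FormsLib.oGroup Q ⧸ O'), (r' : FormsLib.oGroup Q ⧸ O'), ((r * r' : FormsLib.oGroup Q) : FormsLib.oGroup Q ⧸ O')]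
    let Φ' : FormsLib.oGroup Q ⧸ O' →* Fˣ × ℤˣ := QuotientGroup.lift O' Φ hΦ
    have hl : l.Nodup := by
      refine List.Nodup.of_map Φ' ?_
      show [Φ' 1, Φ r, Φ r', Φ (r * r')].Nodup
      rw [map_one, hr, hr', hrr]
      simp [Prod.ext_iff, hm1, hm1.symm, hne]
    haveI := Fintype.ofFinite (FormsLib.oGroup Q ⧸ O')
    have hu : l.toFinset = Finset.univ := Finset.eq_univ_iff_forall.2 fun z => by
      induction z using QuotientGroup.induction_on with
      | H x =>
        rw [List.mem_toFinset]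
        rcases quot_cases S hp hp' hcov x with h | h | h | h
        · rw [h]; exact List.mem_cons_self
        · rw [h]; exact List.mem_cons_of_mem _ List.mem_cons_self
        · rw [h]; exact List.mem_cons_of_mem _ (List.mem_cons_of_mem _ List.mem_cons_self)
        · rw [h]; exact List.mem_cons_of_mem _ (List.mem_cons_of_mem _ (List.mem_cons_of_mem _ List.mem_cons_self))
    rw [Nat.card_eq_fintype_card, ← Finset.card_univ, ← hu, List.toFinset_card_of_nodup hl]
    rfl
  · constructor
    · intro hg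
      have h1 : g ∈ O' := by
        have := map_commutator_eq (Q := Q) ▸ hg
        obtain ⟨y, hy, hye⟩ := this
        rwa [show g = y from Subtype.ext hye.symm]
      have := hΦ h1
      exact ⟨congrArg Prod.fst (this : Φ g = 1), congrArg Prod.snd (this : Φ g = 1)⟩
    · rintro ⟨hd, hx⟩
      rw [← map_commutator_eq]
      exact ⟨g, hker g (Prod.ext hd hx), rfl⟩

/-- The centre consists of signs. -/
theorem center_sign {z : Om (Q := Q)} (hz : z ∈ Subgroup.center (Om (Q := Q))) :
    (∀ v, z.1 v = v) ∨ (∀ v, z.1 v = -v) := by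
  have hd := S.dim
  have hfix : ∀ x, x ≠ 0 → Q x = 0 → ∃ a : F, z.1 x = a • x := by
    intro x hx hQx
    obtain ⟨w, -, hwv, hQw⟩ := S.topDec.exists_aniso (k := 1) ![x] (by rw [S.finrank_top_eq]; omega)
    have hw : pB Q w x = 0 := hwv 0
    have hc := congrArg Subtype.val (Subgroup.mem_center_iff.1 hz (sg S x w hQx hw))
    have hh : S.siegel x w hQx hw * z.1 = z.1 * S.siegel x w hQx hw := hc
    by_contra hne
    push Not at hne
    -- the transformation fixes `x^⊥ ∩ w^⊥` only
    have hli : z.1 x ∉ Submodule.span F {x} := fun h => by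
      obtain ⟨a, ha⟩ := Submodule.mem_span_singleton.1 h
      exact hne a ha.symm
    obtain ⟨y, hy⟩ := S.exists_values (v := ![z.1 x, x]) (S.sing_indep_pair hx hli) ![1, 0]
    have hy1 : pB Q y (z.1 x) = 1 := hy 0
    have hy2 : pB Q y x = 0 := hy 1
    have h3 := congrArg (fun f : (ι → F) ≃ₗ[F] (ι → F) => pB Q y (f (z.1.symm y))) hh
    have e1 : ∀ u, pB Q (z.1.symm y) u = pB Q y (z.1 u) := fun u => by
      rw [← S.pB_of_mem (mem_oGroup_of_mem_Om z.2), LinearEquiv.apply_symm_apply]
    simp only [LinearEquiv.mul_apply, LinearEquiv.apply_symm_apply, S.siegel_apply, siegelHom_apply,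
      map_add, map_sub, map_smul, smul_eq_mul, hy1, hy2, e1, S.pB_self y] at h3
    -- vary `w`
    exact hQw (by linear_combination h3)
  obtain ⟨c, hc⟩ := scalar_of_fix_singular S z.1 hfix
  obtain ⟨p, -, -, hQp⟩ := S.topDec.exists_aniso (k := 0) ![] (by rw [S.finrank_top_eq]; omega)
  have h1 := mem_oGroup_of_mem_Om z.2 p
  rw [hc, S.quad_smul] at h1
  rcases mul_self_eq_one_iff.1 ((mul_eq_right₀ hQp).1 h1) with h | h
  · exact Or.inl fun v => by rw [hc, h, one_smul]
  · exact Or.inr fun v => by rw [hc, h, neg_one_smul]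

/-- The order of the centre. -/
theorem card_center_eq_one (h : ∀ z : Om (Q := Q), (∀ v, z.1 v = -v) → ∀ v, z.1 v = v) :
    Nat.card (Subgroup.center (Om (Q := Q))) = 1 := by
  rw [Subgroup.card_eq_one, Subgroup.eq_bot_iff_forall]
  intro z hz
  refine Subtype.ext (LinearEquiv.ext fun v => ?_)
  rcases center_sign S hz with h1 | h1
  · exact h1 v
  · exact h z h1 v

theorem card_center_eq_two (h2 : (2 : F) ≠ 0) (z : Om (Q := Q)) (hz : ∀ v, z.1 v = -v) :
    Nat.card (Subgroup.center (Om (Q := Q))) = 2 := by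
  have hd := S.dim
  have hzc : z ∈ Subgroup.center (Om (Q := Q)) :=
    mem_center_of_scalar S (c := -1) fun v => by rw [hz, neg_one_smul]
  rw [Nat.card_eq_two_iff]
  refine ⟨⟨1, one_mem _⟩, ⟨z, hzc⟩, fun e => ?_, Set.eq_univ_of_forall fun ⟨w, hw⟩ => ?_⟩
  · obtain ⟨p, -, -, hQp⟩ := S.topDec.exists_aniso (k := 0) ![] (by rw [S.finrank_top_eq]; omega)
    have hp : p ≠ 0 := fun h => hQp (by rw [h, QuadraticMap.map_zero])
    have h1 : p = -p := (congrArg (fun x : Subgroup.center (Om (Q := Q)) => x.1.1 p) e).trans (hz p)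
    exact smul_ne_zero h2 hp (by rw [two_smul]; nth_rw 2 [h1]; exact add_neg_cancel p)
  · rcases center_sign S hw with h1 | h1
    · exact Or.inl (Subtype.ext (Subtype.ext (LinearEquiv.ext fun v => h1 v)))
    · exact Or.inr (Subtype.ext (Subtype.ext (LinearEquiv.ext fun v => (h1 v).trans (hz v).symm)))

omit S [Finite F] in
theorem card_POmega_mul {f : (ι → F) → F} (hf : ⇑Q = f) :
    Nat.card (Cfsg.POmega F f) * Nat.card (Subgroup.center (Om (Q := Q))) = Nat.card (Om (Q := Q)) := by
  subst hf
  obtain ⟨e⟩ := exists_equiv_Omega (Q := Q)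
  rw [← Nat.card_congr e.toEquiv, ← Nat.card_congr (Subgroup.centerCongr e).toEquiv]
  exact (Subgroup.card_eq_card_quotient_mul_card_subgroup _).symm

end General

end Cfsg.Agent.OrthIndex
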