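import Mathlib

/-!
The projective line: frames, sharp triple transitivity of `PGL_2`.
-/

set_option autoImplicit false

namespace Cfsg.Agent.LinGrp

open Matrix
open scoped LinearAlgebra.Projectivization MatrixGroups

variable {F : Type*} [Field F]

/-- The cross term of two vectors of the plane. -/
def crossTerm (v w : Fin 2 → F) : F := v 0 * w 1 - v 1 * w 0

theorem mk_eq_mk_iff_crossTerm {v w : Fin 2 → F} (hv : v ≠ 0) (hw : w ≠ 0) :
    Projectivization.mk F v hv = Projectivization.mk F w hw ↔ crossTerm v w = 0 := by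
  rw [Projectivization.mk_eq_mk_iff']
  constructor
  · rintro ⟨a, rfl⟩
    simp [crossTerm]
    ring
  · intro h
    unfold crossTerm at h
    by_cases h0 : w 0 = 0
    · have hw1 : w 1 ≠ 0 := fun h1 => hw (by ext i; fin_cases i <;> assumption)
      have hv0 : v 0 = 0 := by
        rw [h0, mul_zero, sub_zero] at h
        exact (mul_eq_zero.1 h).resolve_right hw1
      exact ⟨v 1 / w 1, by ext i; fin_cases i <;> simp [h0, hv0, hw1]⟩
    · refine ⟨v 0 / w 0, ?_⟩
      ext i
      fin_cases i
      · simp [h0]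
      · simp
        field_simp
        linear_combination h

theorem e1_ne : (![1, 0] : Fin 2 → F) ≠ 0 := fun h => one_ne_zero (α := F) (congrFun h 0)

theorem e2_ne : (![0, 1] : Fin 2 → F) ≠ 0 := fun h => one_ne_zero (α := F) (congrFun h 1)

theorem diag_ne (d : F) : (![d, 1] : Fin 2 → F) ≠ 0 := fun h =>
  one_ne_zero (α := F) (congrFun h 1)

/-- The standard triple of points of the projective line. -/
def stdTriple (F : Type*) [Field F] : Fin 3 → ℙ F (Fin 2 → F) :=
  ![.mk F ![1, 0] e1_ne, .mk F ![0, 1] e2_ne, .mk F ![1, 1] (diag_ne 1)]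

theorem stdTriple_injective : Function.Injective (stdTriple F) := by
  intro i j h
  fin_cases i <;> fin_cases j <;>
    first | rfl | (simp [stdTriple, mk_eq_mk_iff_crossTerm, crossTerm] at h)

theorem GL_smul_vec (g : GL (Fin 2) F) (v : Fin 2 → F) : g • v = g.1 *ᵥ v := rfl

/-- A frame for three distinct points. -/
theorem exists_frame {a b c : ℙ F (Fin 2 → F)} (hab : a ≠ b) (hac : a ≠ c) (hbc : b ≠ c) :
    ∃ g : GL (Fin 2) F, g • stdTriple F 0 = a ∧ g • stdTriple F 1 = b ∧ g • stdTriple F 2 = c := by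
  induction a using Projectivization.ind with | _ u hu =>
  induction b using Projectivization.ind with | _ w hw =>
  induction c using Projectivization.ind with | _ z hz =>
  rw [Ne, mk_eq_mk_iff_crossTerm] at hab hac hbc
  set α := crossTerm z w / crossTerm u w with hα
  set β := crossTerm u z / crossTerm u w with hβ
  have hzw : crossTerm z w ≠ 0 := fun h => hbc (by unfold crossTerm at *; linear_combination -h)
  have hα0 : α ≠ 0 := div_ne_zero hzw hab
  have hβ0 : β ≠ 0 := div_ne_zero hac hab
  have hz0 : ∀ i, α * u i + β * w i = z i := by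
    intro i
    rw [hα, hβ]
    field_simp
    unfold crossTerm
    fin_cases i <;> simp <;> ring
  refine ⟨GeneralLinearGroup.mkOfDetNeZero !![α * u 0, β * w 0; α * u 1, β * w 1] ?_, ?_, ?_, ?_⟩
  · rw [det_fin_two_of, show α * u 0 * (β * w 1) - β * w 0 * (α * u 1) = α * β * crossTerm u w by
      rw [crossTerm]; ring]
    exact mul_ne_zero (mul_ne_zero hα0 hβ0) hab
  all_goals simp only [stdTriple, Matrix.cons_val_zero, Matrix.cons_val_one, Matrix.cons_val,
    Projectivization.smul_mk, mk_eq_mk_iff_crossTerm, GL_smul_vec]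
  · simp [crossTerm, GeneralLinearGroup.mkOfDetNeZero]
    ring
  · simp [crossTerm, GeneralLinearGroup.mkOfDetNeZero]
    ring
  · simp [crossTerm, GeneralLinearGroup.mkOfDetNeZero, ← hz0]
    ring

/-- An element fixing the standard triple is scalar. -/
theorem eq_scalar_of_fix {g : GL (Fin 2) F} (h : ∀ i, g • stdTriple F i = stdTriple F i) :
    g.1 1 0 = 0 ∧ g.1 0 1 = 0 ∧ g.1 0 0 = g.1 1 1 := by
  have h0 := h 0
  have h1 := h 1
  have h2 := h 2
  simp only [stdTriple, Matrix.cons_val_zero, Matrix.cons_val_one, Matrix.cons_val,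
    Projectivization.smul_mk, mk_eq_mk_iff_crossTerm, GL_smul_vec] at h0 h1 h2
  simp [crossTerm, Matrix.mulVec, dotProduct, Fin.sum_univ_two] at h0 h1 h2
  refine ⟨h0, h1, ?_⟩
  linear_combination h2 + h0 - h1

/-- Pretransitivity on triples from frames. -/
theorem isMultiplyPretransitive_three {G : Type*} [Group G] [MulAction G (ℙ F (Fin 2 → F))]
    (h : ∀ a b c : ℙ F (Fin 2 → F), a ≠ b → a ≠ c → b ≠ c → ∃ g : G,
      g • stdTriple F 0 = a ∧ g • stdTriple F 1 = b ∧ g • stdTriple F 2 = c) :
    MulAction.IsMultiplyPretransitive G (ℙ F (Fin 2 → F)) 3 := by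
  have hx : ∀ x : Fin 3 ↪ ℙ F (Fin 2 → F), ∃ g : G, g • (⟨stdTriple F, stdTriple_injective⟩ :
      Fin 3 ↪ ℙ F (Fin 2 → F)) = x := by
    intro x
    obtain ⟨g, h0, h1, h2⟩ := h (x 0) (x 1) (x 2) (x.injective.ne (by decide))
      (x.injective.ne (by decide)) (x.injective.ne (by decide))
    refine ⟨g, Function.Embedding.ext fun i => ?_⟩
    fin_cases i <;> assumption
  refine ⟨fun x y => ?_⟩
  obtain ⟨g, rfl⟩ := hx x
  obtain ⟨k, rfl⟩ := hx y
  exact ⟨k * g⁻¹, by rw [smul_smul, inv_mul_cancel_right]⟩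

theorem PGL2_three_transitive :
    MulAction.IsMultiplyPretransitive (Matrix.ProjGenLinGroup (Fin 2) F)
      (Projectivization F (Fin 2 → F)) 3 := by
  refine isMultiplyPretransitive_three fun a b c hab hac hbc => ?_
  obtain ⟨g, h0, h1, h2⟩ := exists_frame hab hac hbc
  exact ⟨.mk g, h0, h1, h2⟩

theorem PGL2_eq_one_of_fix (g : Matrix.ProjGenLinGroup (Fin 2) F)
    (a b c : Projectivization F (Fin 2 → F)) (hab : a ≠ b) (hac : a ≠ c) (hbc : b ≠ c)
    (ha : g • a = a) (hb : g • b = b) (hc : g • c = c) : g = 1 := by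
  induction g using Matrix.ProjGenLinGroup.induction_on with | mk g =>
  obtain ⟨k, h0, h1, h2⟩ := exists_frame hab hac hbc
  have ha' : g • a = a := ha
  have hb' : g • b = b := hb
  have hc' : g • c = c := hc
  have hfix : ∀ i, (k⁻¹ * g * k) • stdTriple F i = stdTriple F i := by
    intro i
    rw [mul_smul, mul_smul, inv_smul_eq_iff]
    fin_cases i
    · exact h0 ▸ ha'
    · exact h1 ▸ hb'
    · exact h2 ▸ hc'
  obtain ⟨e0, e1, e2⟩ := eq_scalar_of_fix hfix
  set m := k⁻¹ * g * k with hm
  have hd : m.1 0 0 ≠ 0 := by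
    intro h
    apply (m.1.isUnit_iff_isUnit_det.1 m.isUnit).ne_zero
    rw [det_fin_two, h, e1]
    ring
  have hsc : m = GeneralLinearGroup.scalar (Fin 2) (Units.mk0 _ hd) := by
    ext i j
    fin_cases i <;> fin_cases j <;> simp [e0, e1, e2]
  have hmk : Matrix.ProjGenLinGroup.mk m = 1 := by rw [hsc, Matrix.ProjGenLinGroup.mk_scalar]
  rw [hm, map_mul, map_mul, map_inv] at hmk
  have := congrArg (fun x => Matrix.ProjGenLinGroup.mk k * x * (Matrix.ProjGenLinGroup.mk k)⁻¹) hmk
  simpa [mul_assoc] using this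

/-- `SL_2` is triply transitive on the projective line exactly in characteristic two. -/
theorem SL2_three_transitive_iff [Fintype F] :
    MulAction.IsMultiplyPretransitive (Matrix.SpecialLinearGroup (Fin 2) F)
      (Projectivization F (Fin 2 → F)) 3 ↔ ringChar F = 2 := by
  constructor
  · intro h
    by_contra h2
    obtain ⟨d, hd⟩ := FiniteField.exists_nonsquare h2
    have hd0 : d ≠ 0 := fun h0 => hd (h0 ▸ IsSquare.zero)
    have hinj : Function.Injective
        (![stdTriple F 0, stdTriple F 1, .mk F ![d, 1] (diag_ne d)]) := by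
      intro i j hij
      fin_cases i <;> fin_cases j <;>
        first | rfl | (simp [stdTriple, mk_eq_mk_iff_crossTerm, crossTerm, hd0] at hij)
    obtain ⟨g, hg⟩ := h.exists_smul_eq ⟨stdTriple F, stdTriple_injective⟩ ⟨_, hinj⟩
    have h0 := DFunLike.congr_fun hg 0
    have h1 := DFunLike.congr_fun hg 1
    have h3 := DFunLike.congr_fun hg 2
    simp only [Function.Embedding.smul_apply, Function.Embedding.coeFn_mk, stdTriple,
      Matrix.cons_val_zero, Matrix.cons_val_one, Matrix.cons_val, Projectivization.smul_mk,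
      mk_eq_mk_iff_crossTerm, Matrix.SpecialLinearGroup.smul_def] at h0 h1 h3
    simp [crossTerm, Matrix.mulVec, dotProduct, Fin.sum_univ_two] at h0 h1 h3
    have hdet := g.2
    rw [det_fin_two, h0, mul_zero, sub_zero] at hdet
    refine hd ⟨g.1 0 0, ?_⟩
    rw [h0, h1] at h3
    linear_combination -(g.1 0 0) * h3 - d * hdet
  · intro h2
    refine isMultiplyPretransitive_three fun a b c hab hac hbc => ?_
    obtain ⟨g, e0, e1, e2⟩ := exists_frame hab hac hbc
    have hd0 : g.1.det ≠ 0 := (g.1.isUnit_iff_isUnit_det.1 g.isUnit).ne_zero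
    obtain ⟨r, hr⟩ := FiniteField.isSquare_of_char_two h2 g.1.det⁻¹
    have hr0 : r ≠ 0 := fun h => inv_ne_zero hd0 (by rw [hr, h, zero_mul])
    let m : Matrix.SpecialLinearGroup (Fin 2) F :=
      ⟨r • g.1, by rw [det_smul, Fintype.card_fin, pow_two, ← hr, inv_mul_cancel₀ hd0]⟩
    have key : ∀ x : Projectivization F (Fin 2 → F), m • x = g • x := by
      intro x
      induction x using Projectivization.ind with | _ v hv =>
      rw [Projectivization.smul_mk, Projectivization.smul_mk, Projectivization.mk_eq_mk_iff']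
      exact ⟨r, (Matrix.smul_mulVec r g.1 v).symm⟩
    exact ⟨m, (key _).trans e0, (key _).trans e1, (key _).trans e2⟩

end Cfsg.Agent.LinGrp
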