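import Cfsg.Agent.Lib.LinearGroups.Basic

/-!
Simplicity of `PSL_n` over a field (`n ≥ 3`, or `n = 2` and at least four elements).
-/

set_option autoImplicit false

namespace Cfsg.Agent.LinGrp

open Matrix
open scoped LinearAlgebra.Projectivization Pointwise

variable {n : Type*} [Fintype n] [DecidableEq n] {F : Type*} [Field F]

theorem iSup_lineStab_eq_top :
    (⨆ p : ℙ F (n → F), Matrix.SpecialLinearGroup.lineStab p.submodule) =
      (⊤ : Subgroup (Matrix.SpecialLinearGroup n F)) := by
  rw [eq_top_iff, ← closure_transvectionSet, Subgroup.closure_le]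
  rintro g ⟨i, j, hij, a, rfl⟩
  have hne : (Pi.single i (1 : F) : n → F) ≠ 0 := Pi.single_ne_zero_iff.2 one_ne_zero
  refine le_iSup (fun p : ℙ F (n → F) => Matrix.SpecialLinearGroup.lineStab p.submodule)
    (Projectivization.mk F _ hne) ?_
  rw [Projectivization.submodule_mk]
  exact SL2Gen.transvection_mem_lineStab hij a

/-- The Iwasawa structure of `PSL_n` on projective space. -/
noncomputable def iwasawa : MulAction.IwasawaStructure
    (Matrix.ProjectiveSpecialLinearGroup n F) (ℙ F (n → F)) where
  T := PSL.iwasawaT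
  is_comm p := by
    have hSL : IsMulCommutative
        (Matrix.SpecialLinearGroup.lineStab (F := F) (ι := n) p.submodule) := by
      rw [← Projectivization.mk_rep p, Projectivization.submodule_mk]
      exact Matrix.SpecialLinearGroup.lineStab_isMulCommutative_of_span p.rep p.rep_nonzero
    exact Subgroup.map_isMulCommutative _ _
  is_conj g p := by
    obtain ⟨g', rfl⟩ := QuotientGroup.mk_surjective g
    rw [Matrix.ProjectiveSpecialLinearGroup.smul_proj_mk]
    change Subgroup.map _ _ = _
    rw [PSL.smul_submodule, Matrix.SpecialLinearGroup.lineStab_smul, PSL.iwasawaT_map_conj]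
  is_generator := by
    show (⨆ p : ℙ F (n → F), PSL.iwasawaT p) = ⊤
    rw [show (⨆ p : ℙ F (n → F), PSL.iwasawaT p) = Subgroup.map (QuotientGroup.mk' _)
        (⨆ p : ℙ F (n → F), Matrix.SpecialLinearGroup.lineStab p.submodule) from
      (Subgroup.map_iSup _ _).symm, iSup_lineStab_eq_top]
    exact Subgroup.map_top_of_surjective _ (QuotientGroup.mk'_surjective _)

theorem commutator_PSL_eq_top (h : 3 ≤ Fintype.card n) :
    commutator (Matrix.ProjectiveSpecialLinearGroup n F) = ⊤ := by
  have : Group.IsPerfect (Matrix.SpecialLinearGroup n F) := ⟨commutator_SL_eq_top h⟩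
  have : Group.IsPerfect (Matrix.ProjectiveSpecialLinearGroup n F) := inferInstance
  exact this.commutator_eq_top

/-- `PSL_n` is simple for `n ≥ 3`. -/
theorem isSimpleGroup_PSL (h : 3 ≤ Fintype.card n) :
    IsSimpleGroup (Matrix.ProjectiveSpecialLinearGroup n F) := by
  have : Nontrivial n := Fintype.one_lt_card_iff_nontrivial.1 (by omega)
  exact MulAction.IwasawaStructure.isSimpleGroup (commutator_PSL_eq_top h) iwasawa inferInstance

/-- Every group satisfying the frozen `IsPSL` data is simple. -/
theorem isSimpleGroup_PSL_fin (m : ℕ) (hm : 2 ≤ m) (hq : m = 2 → 4 ≤ Nat.card F) :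
    IsSimpleGroup (Matrix.ProjectiveSpecialLinearGroup (Fin m) F) := by
  rcases Nat.lt_or_ge m 3 with h | h
  · obtain rfl : m = 2 := by omega
    exact Matrix.ProjectiveSpecialLinearGroup.rank_two_simple (hq rfl)
  · exact isSimpleGroup_PSL (by simpa using h)

end Cfsg.Agent.LinGrp
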