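import Cfsg.Agent.Lib.LinearGroups.OrthOrder
import Cfsg.Agent.Lib.LinearGroups.Basic
import Cfsg.Agent.Lib.Forms.OddInvol

/-!
Tools identifying derived groups of small orthogonal groups.
-/

set_option autoImplicit false

namespace Cfsg.Agent.OrthSmall

open Subgroup
open scoped commutatorElement

/-- If every element of `G` is in the image of `f`, up to a central factor, then the derived
group of `G` is the image of that of `H`. -/
theorem commutator_eq_map {G H : Type*} [Group G] [Group H] (f : H →* G) (z : G)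
    (hz : z ∈ center G) (hcov : ∀ x, ∃ h, x = f h ∨ x = z * f h) :
    commutator G = (commutator H).map f := by
  refine le_antisymm ?_ ?_
  · rw [_root_.commutator_def, Subgroup.commutator_le]
    intro a _ b _
    have hzc : ∀ y, Commute z y := fun y => (mem_center_iff.1 hz y).symm
    have key : ∀ x : G, ∃ h : H, ∀ y : G, ⁅x, y⁆ = ⁅f h, y⁆ ∧ ⁅y, x⁆ = ⁅y, f h⁆ := by
      intro x
      obtain ⟨h, rfl | rfl⟩ := hcov x
      · exact ⟨h, fun y => ⟨rfl, rfl⟩⟩
      · refine ⟨h, fun y => ?_⟩
        have e1 : ⁅z * f h, y⁆ = ⁅f h, y⁆ := by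
          rw [commutatorElement_def, commutatorElement_def, mul_inv_rev,
            show z * f h * y * ((f h)⁻¹ * z⁻¹) * y⁻¹ = z * (f h * y * (f h)⁻¹) * z⁻¹ * y⁻¹ by group,
            (hzc _).eq, mul_inv_cancel_right]
        exact ⟨e1, by rw [← commutatorElement_inv (z * f h), e1, commutatorElement_inv]⟩
    obtain ⟨h, hh⟩ := key a
    obtain ⟨k, hk⟩ := key b
    rw [(hh b).1, (hk (f h)).2, ← map_commutatorElement]
    exact mem_map_of_mem _ (commutator_mem_commutator (mem_top h) (mem_top k))
  · rw [_root_.commutator_def, _root_.commutator_def, map_commutator]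
    exact commutator_mono le_top le_top

/-- A derived group that is the image of `S` modulo its centre. -/
theorem derived_modulo_center {G S : Type*} [Group G] [Group S] (ψ : S →* G)
    (hr : commutator G = ψ.range) (hk : ψ.ker = center S) (hc : center (S ⧸ center S) = ⊥) :
    Nonempty (↥(commutator G) ⧸ center ↥(commutator G) ≃* S ⧸ center S) := by
  let e : ↥(commutator G) ≃* S ⧸ center S :=
    (MulEquiv.subgroupCongr hr).trans
      ((QuotientGroup.quotientKerEquivRange ψ).symm.trans (QuotientGroup.quotientMulEquivOfEq hk))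
  have hbot : center ↥(commutator G) = ⊥ := by
    rw [eq_bot_iff]
    intro a ha
    rw [mem_bot]
    have h : e a ∈ center (S ⧸ center S) := mem_center_iff.2 fun b => by
      obtain ⟨b, rfl⟩ := e.surjective b
      rw [← map_mul, ← map_mul, mem_center_iff.1 ha b]
    rw [hc, mem_bot] at h
    exact e.injective (h.trans (map_one e).symm)
  exact ⟨((QuotientGroup.quotientMulEquivOfEq hbot).trans QuotientGroup.quotientBot).trans e⟩

section SL2

variable {F : Type*} [Field F]

local notation "SL2F" => Matrix.SpecialLinearGroup (Fin 2) F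

theorem mem_center_SL2 {g : SL2F} (h01 : g.1 0 1 = 0) (h10 : g.1 1 0 = 0)
    (hd : g.1 0 0 = g.1 1 1) : g ∈ center SL2F := by
  refine mem_center_iff.2 fun x => Matrix.SpecialLinearGroup.ext _ _ fun i j => ?_
  fin_cases i <;> fin_cases j <;>
    simp [Matrix.SpecialLinearGroup.coe_mul, Matrix.mul_apply, Fin.sum_univ_two, h01, h10, hd, mul_comm]

theorem eq_zero_of_mem_center {g : SL2F} (hg : g ∈ center SL2F) :
    g.1 0 1 = 0 ∧ g.1 1 0 = 0 ∧ g.1 0 0 = g.1 1 1 := by
  have h1 := congrArg Subtype.val (mem_center_iff.1 hg ⟨!![1, 1; 0, 1], by simp [Matrix.det_fin_two]⟩)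
  have h2 := congrArg Subtype.val (mem_center_iff.1 hg ⟨!![1, 0; 1, 1], by simp [Matrix.det_fin_two]⟩)
  change !![1, 1; 0, 1] * g.1 = g.1 * !![1, 1; 0, 1] at h1
  change !![1, 0; 1, 1] * g.1 = g.1 * !![1, 0; 1, 1] at h2
  have a1 := congrFun (congrFun h1 0) 0
  have a2 := congrFun (congrFun h1 0) 1
  have b1 := congrFun (congrFun h2 0) 0
  simp [Matrix.mul_apply, Fin.sum_univ_two] at a1 a2 b1
  exact ⟨b1, a1, by linear_combination -a2⟩

theorem center_PSL2' (hsign : ∀ c : F, c * c = 1 → c = 1 ∨ (c = -1 ∧ (2 : F) ≠ 0)) :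
    center (SL2F ⧸ center SL2F) = ⊥ := by
  rw [eq_bot_iff]
  intro q hq
  induction q using QuotientGroup.induction_on with | H g =>
  rw [mem_bot, QuotientGroup.eq_one_iff]
  have key : ∀ t : SL2F, Matrix.trace t.1 = 2 → g * t = t * g := by
    intro t ht
    have h := mem_center_iff.1 hq (t : SL2F ⧸ center SL2F)
    rw [← QuotientGroup.mk_mul, ← QuotientGroup.mk_mul, QuotientGroup.eq] at h
    obtain ⟨e01, e10, ed⟩ := eq_zero_of_mem_center h
    set c := (t * g)⁻¹ * (g * t) with hc
    have hgt : g * t = t * g * c := by rw [hc, mul_inv_cancel_left]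
    have hd : c.1 0 0 * c.1 0 0 = 1 := by
      have := c.2
      rw [Matrix.det_fin_two, e01, zero_mul, sub_zero, ← ed] at this
      exact this
    have hc1 : c.1 0 0 = 1 := by
      rcases hsign _ hd with h1 | ⟨h1, h2⟩
      · exact h1
      · exfalso
        -- `g t g⁻¹ = -t` contradicts the trace
        have hc' : c.1 = -1 := by
          ext i j
          fin_cases i <;> fin_cases j <;> simp [e01, e10, h1, ← ed]
        have hm : g.1 * t.1 = -(t.1 * g.1) := by
          rw [← Matrix.SpecialLinearGroup.coe_mul, hgt, Matrix.SpecialLinearGroup.coe_mul, hc',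
            Matrix.mul_neg, Matrix.mul_one, Matrix.SpecialLinearGroup.coe_mul]
        have hgi : g.1 * (g⁻¹ : SL2F).1 = 1 := by
          rw [← Matrix.SpecialLinearGroup.coe_mul, mul_inv_cancel, Matrix.SpecialLinearGroup.coe_one]
        have ht' : Matrix.trace t.1 = -Matrix.trace t.1 := by
          calc Matrix.trace t.1 = Matrix.trace (g.1 * t.1 * (g⁻¹ : SL2F).1) := by
                rw [Matrix.trace_mul_cycle, ← Matrix.SpecialLinearGroup.coe_mul, inv_mul_cancel,
                  Matrix.SpecialLinearGroup.coe_one, Matrix.one_mul]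
            _ = -Matrix.trace t.1 := by
              rw [hm, Matrix.neg_mul, Matrix.trace_neg, Matrix.mul_assoc, hgi, Matrix.mul_one]
        rw [ht] at ht'
        have h4 : (2 : F) * 2 = 0 := by linear_combination ht'
        exact h2 (mul_self_eq_zero.1 h4)
    have hcone : c = 1 := Subtype.ext (by
      ext i j
      fin_cases i <;> fin_cases j <;> simp [e01, e10, hc1, ← ed])
    rw [hgt, hcone, mul_one]
  have h1 := congrArg Subtype.val (key ⟨!![1, 1; 0, 1], by simp [Matrix.det_fin_two]⟩ (by simp [Matrix.trace_fin_two, one_add_one_eq_two]))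
  have h3 := congrArg Subtype.val (key ⟨!![1, 0; 1, 1], by simp [Matrix.det_fin_two]⟩ (by simp [Matrix.trace_fin_two, one_add_one_eq_two]))
  change g.1 * !![1, 1; 0, 1] = !![1, 1; 0, 1] * g.1 at h1
  change g.1 * !![1, 0; 1, 1] = !![1, 0; 1, 1] * g.1 at h3
  have a1 := congrFun (congrFun h1 0) 0
  have a2 := congrFun (congrFun h1 0) 1
  have b1 := congrFun (congrFun h3 0) 0
  simp [Matrix.mul_apply, Fin.sum_univ_two] at a1 a2 b1
  exact mem_center_SL2 b1 a1 (by linear_combination a2)

/-- `PSL_2` over a field of odd characteristic has trivial centre. -/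
theorem center_PSL2 (h2 : (2 : F) ≠ 0) : center (SL2F ⧸ center SL2F) = ⊥ :=
  center_PSL2' fun c hc => by
    rcases mul_self_eq_one_iff.1 hc with h | h
    · exact Or.inl h
    · exact Or.inr ⟨h, h2⟩

end SL2

section SL2any

variable {F : Type*} [Field F]

local notation "SL2G" => Matrix.SpecialLinearGroup (Fin 2) F

/-- `PSL_2` has trivial centre. -/
theorem center_PSL2_any : center (SL2G ⧸ center SL2G) = ⊥ :=
  center_PSL2' fun c hc => by
    rcases mul_self_eq_one_iff.1 hc with h | h
    · exact Or.inl h
    · by_cases h2 : (2 : F) = 0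
      · exact Or.inl (by linear_combination h - h2)
      · exact Or.inr ⟨h, h2⟩

end SL2any

/-- A subgroup containing all squares contains the derived group. -/
theorem commutator_le_of_sq {G : Type*} [Group G] (M : Subgroup G) (h : ∀ x : G, x * x ∈ M) :
    commutator G ≤ M := by
  rw [_root_.commutator_def, Subgroup.commutator_le]
  intro a _ b _
  have e : ⁅a, b⁆ = (a * b) * (a * b) * ((b⁻¹ * a⁻¹ * b) * (b⁻¹ * a⁻¹ * b)) * (b⁻¹ * b⁻¹) := by
    rw [commutatorElement_def]; group
  rw [e]
  exact mul_mem (mul_mem (h _) (h _)) (h _)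

/-- A central extension of a centreless group, modulo its centre. -/
theorem derived_modulo_center_le {G S : Type*} [Group G] [Group S] (ψ : S →* G)
    (hr : commutator G = ψ.range) (hk : ψ.ker ≤ center S) (hc : center (S ⧸ center S) = ⊥) :
    Nonempty (↥(commutator G) ⧸ center ↥(commutator G) ≃* S ⧸ center S) := by
  let χ : S →* ↥(commutator G) := ψ.codRestrict (commutator G) (fun s => hr ▸ ⟨s, rfl⟩)
  have hχs : Function.Surjective χ := by
    rintro ⟨g, hg⟩
    obtain ⟨s, rfl⟩ := (hr ▸ hg : g ∈ ψ.range)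
    exact ⟨s, rfl⟩
  let π := (QuotientGroup.mk' (center ↥(commutator G))).comp χ
  have hπs : Function.Surjective π := (QuotientGroup.mk'_surjective _).comp hχs
  have hker : π.ker = center S := by
    ext s
    rw [MonoidHom.mem_ker, MonoidHom.comp_apply, QuotientGroup.mk'_apply, QuotientGroup.eq_one_iff]
    constructor
    · intro hs
      rw [← QuotientGroup.eq_one_iff, ← mem_bot, ← hc, mem_center_iff]
      intro q
      induction q using QuotientGroup.induction_on with | H t =>
      rw [← QuotientGroup.mk_mul, ← QuotientGroup.mk_mul, QuotientGroup.eq]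
      refine hk ?_
      have h1 : ψ t * ψ s = ψ s * ψ t := congrArg Subtype.val (mem_center_iff.1 hs (χ t))
      rw [MonoidHom.mem_ker, map_mul, map_inv, map_mul, map_mul, h1, inv_mul_cancel]
    · intro hs
      refine mem_center_iff.2 fun g => ?_
      obtain ⟨t, rfl⟩ := hχs g
      rw [← map_mul, ← map_mul, mem_center_iff.1 hs t]
  exact ⟨((QuotientGroup.quotientMulEquivOfEq hker).symm.trans
    (QuotientGroup.quotientKerEquivOfSurjective π hπs)).symm⟩

end Cfsg.Agent.OrthSmall
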